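import Groth.Agent.Lib.RMorLocal.FlatMor
import Mathlib.RingTheory.Flat.EquationalCriterion
import Mathlib.Topology.Sheaves.Stalks
import Mathlib.RingTheory.RingHom.Flat

/-!
# A map of ringed spaces with flat stalk maps gives a flat module over the pulled back ring
-/

set_option linter.style.haveILetI false

universe u

open CategoryTheory Limits Opposite TopologicalSpace

namespace Groth.Agent.Lib.RMorLocal.FlatStalk

open Groth.Agent.Lib.ModTensor.Local Groth.Agent.Lib.RMorLocal.FlatMor Groth.Agent.Lib.FlatCrit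

theorem mem_inf {Z : Type u} [TopologicalSpace Z] {ι : Type*} (s : Finset ι) (V : ι → Opens Z) (z : Z)
    (h : ∀ i ∈ s, z ∈ V i) : z ∈ s.inf V := by
  classical
  induction s using Finset.induction with
  | empty => exact trivial
  | insert i s hi ih =>
    rw [Finset.inf_insert]
    exact ⟨h i (Finset.mem_insert_self i s), ih fun j hj => h j (Finset.mem_insert_of_mem hj)⟩

variable {X Y : TopCat.{u}} {f : X ⟶ Y} {O_X : TopCat.Sheaf CommRingCat.{u} X}
  {O_Y : TopCat.Sheaf CommRingCat.{u} Y}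
  (c : O_Y ⟶ ((TopologicalSpace.Opens.map f).sheafPushforwardContinuous CommRingCat.{u}
    (Opens.grothendieckTopology Y) (Opens.grothendieckTopology X)).obj O_X)

/-- The stalk map. -/
noncomputable def st (x : X) : O_Y.presheaf.stalk (f x) →+* O_X.presheaf.stalk x :=
  ((TopCat.Presheaf.stalkFunctor CommRingCat.{u} (f x)).map
      (show O_Y.presheaf ⟶ (TopCat.Presheaf.pushforward CommRingCat.{u} f).obj O_X.presheaf from c.hom) ≫
    TopCat.Presheaf.stalkPushforward CommRingCat.{u} f O_X.presheaf x).hom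

/-- The germ map downstairs. -/
noncomputable abbrev gY (V : Opens Y) (y : Y) (h : y ∈ V) :
    O_Y.obj.obj (op V) →+* O_Y.presheaf.stalk y :=
  (O_Y.presheaf.germ V y h).hom

/-- The germ map upstairs. -/
noncomputable abbrev gX (U : Opens X) (x : X) (h : x ∈ U) :
    O_X.obj.obj (op U) →+* O_X.presheaf.stalk x :=
  (O_X.presheaf.germ U x h).hom

lemma st_germ (V : Opens Y) (x : X) (hx : f x ∈ V) (r : O_Y.obj.obj (op V)) :
    st c x (gY V (f x) hx r) =
      gX ((Opens.map f).obj V) x hx ((c.hom.app (op V)).hom r) :=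
  (congrArg (TopCat.Presheaf.stalkPushforward CommRingCat.{u} f O_X.presheaf x).hom
    (TopCat.Presheaf.stalkFunctor_map_germ_apply (F := O_Y.presheaf)
      (G := (TopCat.Presheaf.pushforward CommRingCat.{u} f).obj O_X.presheaf) V (f x) hx c.hom r)).trans
    (congrArg (fun q => q.hom ((c.hom.app (op V)).hom r))
      (TopCat.Presheaf.stalkPushforward_germ CommRingCat.{u} f O_X.presheaf V x hx))

/-- The morphism of ringed sites. -/
noncomputable abbrev rmor : _root_.ModSite.RMor O_X O_Y :=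
  _root_.ModSite.RMor.ofFlat (TopologicalSpace.Opens.map f) c

lemma gX_sh {V : Opens Y} (r : O_Y.obj.obj (op V)) {U : Opens X} {x : X} (hxU : x ∈ U)
    (ψ : U ⟶ (Opens.map f).obj V) :
    gX U x hxU (Pull.sh (rmor c) ψ r) = st c x (gY V (f x) (ψ.le hxU) r) :=
  (TopCat.Presheaf.germ_res_apply O_X.presheaf ψ x hxU _).trans (st_germ c V x (ψ.le hxU) r).symm

theorem crit_baseMod (hflat : ∀ x : X, (st c x).Flat) :
    Rel.Crit (R := (rmor c).invRing.obj) (Opens.grothendieckTopology X)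
      ((ModTensor.Monoidal.G.{u, u, u} (rmor c).invRing).obj (rmor c).baseMod) := by
  intro U n z t₀ hrel
  refine ⟨Rel.trivSieve (R := (rmor c).invRing.obj)
    ((ModTensor.Monoidal.G.{u, u, u} (rmor c).invRing).obj (rmor c).baseMod) (fun _ : Fin 1 => z) t₀,
    fun x hxU => ?_, fun V g hg => ?_⟩
  swap
  · obtain ⟨l, y, a, hy, ha⟩ := hg
    exact ⟨l, y, a, hy, fun q => ha 0 q⟩
  classical
  obtain ⟨S, hS, H⟩ := exists_cover_ep (f := rmor c) (d := (⊤ : Opens Y))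
    (homOfLE (le_top : U ≤ (⊤ : Opens X))) z
  obtain ⟨U₁, g₁, hg₁, hx₁⟩ := hS x hxU
  obtain ⟨V₁, _, ψ₁, r, _, hr⟩ := H g₁ hg₁
  let t : Fin n → O_X.obj.obj (op U) := t₀
  have hfx : f x ∈ V₁ := ψ₁.le hx₁
  have hrelX : ∑ j, isharp (rmor c) U (z j) * t j = 0 := hrel
  have hst : ∀ j, st c x (gY V₁ (f x) hfx (r j)) = gX U x hxU (isharp (rmor c) U (z j)) := fun j => by
    rw [← gX_sh c (r j) hx₁ ψ₁, ← isharp_ep, hr j]
    refine (congrArg (gX U₁ x hx₁) (congrArg (fun q => q.hom (z j))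
      ((rmor c).invSharp.hom.naturality g₁.op))).trans ?_
    exact TopCat.Presheaf.germ_res_apply O_X.presheaf g₁ x hx₁ _
  letI : Algebra (O_Y.presheaf.stalk (f x)) (O_X.presheaf.stalk x) := (st c x).toAlgebra
  haveI : Module.Flat (O_Y.presheaf.stalk (f x)) (O_X.presheaf.stalk x) := hflat x
  have hsum : ∑ j, gY V₁ (f x) hfx (r j) • gX U x hxU (t j) = 0 := by
    refine Eq.trans (Finset.sum_congr rfl fun j _ => ?_)
      ((map_sum (gX U x hxU) _ _).symm.trans ((congrArg (gX U x hxU) hrelX).trans (map_zero _)))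
    rw [map_mul, ← hst]
    rfl
  obtain ⟨l, a, y, hy, ha⟩ := Module.Flat.isTrivialRelation_of_sum_smul_eq_zero hsum
  choose Va hVa a' ha' using fun p : Fin n × Fin l => TopCat.Presheaf.exists_germ_eq O_Y.presheaf (a p.1 p.2)
  choose Uy hUy y' hy' using fun q : Fin l => TopCat.Presheaf.exists_germ_eq O_X.presheaf (y q)
  let V₂ : Opens Y := V₁ ⊓ Finset.univ.inf Va
  have hV₂ : f x ∈ V₂ := ⟨hfx, mem_inf _ _ _ fun p _ => hVa p⟩
  let A : Fin n → Fin l → O_Y.obj.obj (op V₂) := fun j q =>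
    (O_Y.obj.map (homOfLE (inf_le_right.trans (Finset.inf_le (Finset.mem_univ (j, q)))) : V₂ ⟶ Va (j, q)).op).hom
      (a' (j, q))
  have hA : ∀ j q, gY V₂ (f x) hV₂ (A j q) = a j q := fun j q =>
    (TopCat.Presheaf.germ_res_apply O_Y.presheaf _ (f x) hV₂ _).trans (ha' (j, q))
  let r₂ : Fin n → O_Y.obj.obj (op V₂) := fun j =>
    (O_Y.obj.map (homOfLE inf_le_left : V₂ ⟶ V₁).op).hom (r j)
  have hr₂ : ∀ j, gY V₂ (f x) hV₂ (r₂ j) = gY V₁ (f x) hfx (r j) := fun j =>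
    TopCat.Presheaf.germ_res_apply O_Y.presheaf _ (f x) hV₂ _
  have hrelY : ∀ q, gY V₂ (f x) hV₂ (∑ j, A j q * r₂ j) = gY V₂ (f x) hV₂ 0 := fun q => by
    rw [map_zero, map_sum, ← ha q]
    exact Finset.sum_congr rfl fun j _ => by rw [map_mul, hA, hr₂, mul_comm]
  choose W hW iW iW' hW' using fun q : Fin l =>
    TopCat.Presheaf.germ_eq O_Y.presheaf (f x) hV₂ hV₂ _ _ (hrelY q)
  let V₃ : Opens Y := V₂ ⊓ Finset.univ.inf W
  have hV₃ : f x ∈ V₃ := ⟨hV₂, mem_inf _ _ _ fun p _ => hW p⟩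
  let π : V₃ ⟶ V₂ := homOfLE inf_le_left
  have hzero : ∀ q, ∑ j, (O_Y.obj.map π.op).hom (A j q) * (O_Y.obj.map π.op).hom (r₂ j) = 0 := fun q => by
    simp only [← map_mul, ← map_sum]
    have e : π = (homOfLE (inf_le_right.trans (Finset.inf_le (Finset.mem_univ q))) : V₃ ⟶ W q) ≫ iW q :=
      Subsingleton.elim _ _
    rw [e, op_comp, Functor.map_comp]
    refine (congrArg _ (hW' q)).trans ?_
    exact (congrArg (O_Y.obj.map _).hom (map_zero (O_Y.obj.map (iW' q).op).hom)).trans (map_zero (O_Y.obj.map _).hom)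
  let U₂ : Opens X := (U₁ ⊓ (Opens.map f).obj V₃) ⊓ Finset.univ.inf Uy
  have hx₂ : x ∈ U₂ := ⟨⟨hx₁, hV₃⟩, mem_inf _ _ _ fun q _ => hUy q⟩
  let ψ₂ : U₂ ⟶ (Opens.map f).obj V₃ := homOfLE (inf_le_left.trans inf_le_right)
  let g₂ : U₂ ⟶ U₁ := homOfLE (inf_le_left.trans inf_le_left)
  let Y₂ : Fin l → O_X.obj.obj (op U₂) := fun q =>
    (O_X.obj.map (homOfLE (inf_le_right.trans (Finset.inf_le (Finset.mem_univ q))) : U₂ ⟶ Uy q).op).hom (y' q)
  have hY₂ : ∀ q, gX U₂ x hx₂ (Y₂ q) = y q := fun q =>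
    (TopCat.Presheaf.germ_res_apply O_X.presheaf _ x hx₂ _).trans (hy' q)
  have heq : ∀ j, gX U₂ x hx₂ ((O_X.obj.map (g₂ ≫ g₁).op).hom (t j)) =
      gX U₂ x hx₂ (∑ q, Pull.sh (rmor c) ψ₂ ((O_Y.obj.map π.op).hom (A j q)) * Y₂ q) := fun j => by
    refine (TopCat.Presheaf.germ_res_apply O_X.presheaf _ x hx₂ _).trans ((hy j).trans ?_)
    rw [map_sum]
    refine Finset.sum_congr rfl fun q _ => ?_
    rw [map_mul, gX_sh c _ hx₂ ψ₂, hY₂, ← hA j q]
    exact congrArg (fun s => st c x s * y q)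
      (TopCat.Presheaf.germ_res_apply O_Y.presheaf π (f x) hV₃ _).symm
  choose W' hW₁ jW jW' hWeq using fun j : Fin n =>
    TopCat.Presheaf.germ_eq O_X.presheaf x hx₂ hx₂ _ _ (heq j)
  let U₃ : Opens X := U₂ ⊓ Finset.univ.inf W'
  have hx₃ : x ∈ U₃ := ⟨hx₂, mem_inf _ _ _ fun q _ => hW₁ q⟩
  let g₃ : U₃ ⟶ U₂ := homOfLE inf_le_left
  refine ⟨U₃, g₃ ≫ g₂ ≫ g₁, ⟨l, fun q => (O_X.obj.map g₃.op).hom (Y₂ q),
    fun j q => ep (rmor c) (g₃ ≫ ψ₂) ((O_Y.obj.map π.op).hom (A j q)), fun j => ?_, fun _ q => ?_⟩, hx₃⟩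
  · have e : g₃ = (homOfLE (inf_le_right.trans (Finset.inf_le (Finset.mem_univ j))) : U₃ ⟶ W' j) ≫ jW j :=
      Subsingleton.elim _ _
    have e' : g₃ = (homOfLE (inf_le_right.trans (Finset.inf_le (Finset.mem_univ j))) : U₃ ⟶ W' j) ≫ jW' j :=
      Subsingleton.elim _ _
    change (O_X.obj.map (g₃ ≫ g₂ ≫ g₁).op).hom (t j) = ∑ q, isharp (rmor c) U₃
      (ep (rmor c) (g₃ ≫ ψ₂) ((O_Y.obj.map π.op).hom (A j q))) * (O_X.obj.map g₃.op).hom (Y₂ q)
    simp only [isharp_ep, ← Kill.sh_res, ← map_mul, ← map_sum]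
    rw [op_comp, Rel.map_comp_apply]
    conv_lhs => rw [e]
    conv_rhs => rw [e']
    simp only [op_comp, Rel.map_comp_apply]
    refine congrArg _ (Eq.trans ?_ (hWeq j))
    simp only [op_comp, Functor.map_comp]
    rfl
  · change ∑ j, ep (rmor c) (g₃ ≫ ψ₂) ((O_Y.obj.map π.op).hom (A j q)) *
      ((rmor c).invRing.obj.map (g₃ ≫ g₂ ≫ g₁).op).hom (z j) = 0
    have hz : ∀ j, ((rmor c).invRing.obj.map (g₃ ≫ g₂ ≫ g₁).op).hom (z j) =
        ep (rmor c) (g₃ ≫ ψ₂) ((O_Y.obj.map π.op).hom (r₂ j)) := fun j => by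
      rw [← Category.assoc, op_comp, Rel.map_comp_apply, ← hr j, ep, InvRing.map_eps,
        InvRing.eps_map, InvRing.eps_map]
      congr 1
    simp only [hz, ← map_mul (ep (rmor c) (g₃ ≫ ψ₂)), ← map_sum (ep (rmor c) (g₃ ≫ ψ₂)), hzero q, map_zero]

end Groth.Agent.Lib.RMorLocal.FlatStalk
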