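import Groth.Agent.Lib.RMorLocal.Basic
import Groth.Prelude.Def_ModSite2
import Mathlib.Algebra.Category.Ring.Limits
import Mathlib.Algebra.Ring.MinimalAxioms
import Mathlib.CategoryTheory.Sites.Whiskering
import Mathlib.CategoryTheory.Limits.Shapes.FunctorToTypes

/-!
# The pulled back sheaf of rings

The sheaf of sets underlying the pullback of a sheaf of rings along a continuous functor with
exact pullback is the pullback of the underlying sheaf of sets; in particular sections of the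
pullback are locally images of sections, and two such images are equal exactly when the sections
are locally equal.
-/

set_option linter.style.haveILetI false

universe u

open CategoryTheory Limits Opposite

namespace Groth.Agent.Lib.RMorLocal.InvRing

open Groth.Agent.Lib.RMorLocal.Basic

variable {C D : Type u} [SmallCategory C] [SmallCategory D] {J : GrothendieckTopology C}
  {K : GrothendieckTopology D} (fn : D ⥤ C) [fn.IsContinuous K J]
  [PreservesFiniteLimits (fn.sheafPullback (Type u) K J)]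

/-- Equal values of `ev` come from locally equal sections. -/
theorem exists_cover_ev_eq {P : Dᵒᵖ ⥤ Type u} {c : C} {d : D} (ψ : c ⟶ fn.obj d)
    (x y : P.obj (op d)) (h : ev J K fn ψ x = ev J K fn ψ y) :
    ∃ S ∈ J c, ∀ ⦃c' : C⦄ (g : c' ⟶ c), S g → ∃ (d' : D) (e : d' ⟶ d) (ψ' : c' ⟶ fn.obj d'),
      P.map e.op x = P.map e.op y ∧ ψ' ≫ fn.map e = g ≫ ψ := by
  haveI : PreservesFiniteLimits (Ev J K fn c) := comp_preservesFiniteLimits _ _
  let α : yoneda.obj d ⟶ P := yonedaEquiv.symm x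
  let β : yoneda.obj d ⟶ P := yonedaEquiv.symm y
  have hα : α.app (op d) (𝟙 d) = x := yonedaEquiv.apply_symm_apply x
  have hβ : β.app (op d) (𝟙 d) = y := yonedaEquiv.apply_symm_apply y
  have hαβ : (Ev J K fn c).map α (evY J K fn ψ) = (Ev J K fn c).map β (evY J K fn ψ) := by
    refine (app_ev fn α ψ (𝟙 d)).trans ?_
    rw [hα, h, ← hβ]
    exact (app_ev fn β ψ (𝟙 d)).symm
  let w : (Ev J K fn c).obj (equalizer α β) :=
    (PreservesEqualizer.iso (Ev J K fn c) α β).inv
      ((Types.equalizerIso _ _).inv ⟨evY J K fn ψ, hαβ⟩)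
  have hw : (Ev J K fn c).map (equalizer.ι α β) w = evY J K fn ψ := by
    refine (congrArg (fun q => q ((Types.equalizerIso _ _).inv ⟨evY J K fn ψ, hαβ⟩))
      (PreservesEqualizer.iso_inv_ι (Ev J K fn c) α β)).trans ?_
    exact congrArg (fun q => q ⟨evY J K fn ψ, hαβ⟩) (Types.equalizerIso_inv_comp_ι _ _)
  obtain ⟨S, hS, hgen⟩ := exists_cover_ev fn w
  refine ⟨Sieve.bind S.arrows (fun Y g hg => ?_), ?_, ?_⟩
  · exact
      { arrows := fun c' h' => ∃ (d' : D) (e : d' ⟶ d) (ψ' : c' ⟶ fn.obj d'),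
          P.map e.op x = P.map e.op y ∧ ψ' ≫ fn.map e = (h' ≫ g) ≫ ψ
        downward_closed := by
          rintro Y' Z h' ⟨d', e, ψ', he, hψ⟩ k
          exact ⟨d', e, k ≫ ψ', he, by simp only [Category.assoc, hψ]⟩ }
  · refine J.bind_covering hS (fun Y g hg => ?_)
    obtain ⟨d', ψ', z, hz⟩ := hgen g hg
    have e₁ : evY J K fn (ψ' ≫ fn.map ((equalizer.ι α β).app (op d') z)) = evY J K fn (g ≫ ψ) := by
      rw [← ev_eq_evY, ← app_ev, hz]
      refine (NatTrans.naturality_apply ((Φ J K fn).map (equalizer.ι α β)).hom g.op w).trans ?_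
      exact (congrArg _ hw).trans (map_ev fn ψ g _)
    obtain ⟨S₁, hS₁, H₁⟩ := exists_cover_eq fn _ _ e₁
    refine J.superset_covering (fun Z h' hh => ?_) hS₁
    exact ⟨d', _, h' ≫ ψ', congrArg (fun q => q.app (op d') z) (equalizer.condition α β),
      (Category.assoc _ _ _).trans ((H₁ h' hh).trans (Category.assoc _ _ _).symm)⟩
  · rintro c' _ ⟨Y, h', g, hg, ⟨d', e, ψ', he, hψ⟩, rfl⟩
    exact ⟨d', e, ψ', he, hψ⟩

variable (K)

variable {P Q : Dᵒᵖ ⥤ Type u} {c : C}

/-- The product cone is preserved by sections of `Φ`. -/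
noncomputable def isLimitPair :
    IsLimit (BinaryFan.mk ((Ev J K fn c).map (FunctorToTypes.prod.fst (F := P) (G := Q)))
      ((Ev J K fn c).map (FunctorToTypes.prod.snd (F := P) (G := Q)))) :=
  haveI : PreservesFiniteLimits (Ev J K fn c) := comp_preservesFiniteLimits _ _
  mapIsLimitOfPreservesOfIsLimit (Ev J K fn c) _ _ (FunctorToTypes.binaryProductLimit P Q)

/-- A pair of sections. -/
noncomputable def pairEv (z : ((Φ J K fn).obj P).obj.obj (op c))
    (z' : ((Φ J K fn).obj Q).obj.obj (op c)) :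
    ((Φ J K fn).obj (FunctorToTypes.prod P Q)).obj.obj (op c) :=
  (isLimitPair K fn).lift (BinaryFan.mk
    (TypeCat.ofHom fun _ : PUnit.{u+1} => z) (TypeCat.ofHom fun _ : PUnit.{u+1} => z')) PUnit.unit

lemma fst_pairEv (z : ((Φ J K fn).obj P).obj.obj (op c))
    (z' : ((Φ J K fn).obj Q).obj.obj (op c)) :
    (Ev J K fn c).map FunctorToTypes.prod.fst (pairEv K fn z z') = z :=
  congrArg (fun q => q PUnit.unit) ((isLimitPair K fn (P := P) (Q := Q) (c := c)).fac (BinaryFan.mk
    (TypeCat.ofHom fun _ : PUnit.{u+1} => z) (TypeCat.ofHom fun _ : PUnit.{u+1} => z'))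
      ⟨WalkingPair.left⟩)

lemma snd_pairEv (z : ((Φ J K fn).obj P).obj.obj (op c))
    (z' : ((Φ J K fn).obj Q).obj.obj (op c)) :
    (Ev J K fn c).map FunctorToTypes.prod.snd (pairEv K fn z z') = z' :=
  congrArg (fun q => q PUnit.unit) ((isLimitPair K fn (P := P) (Q := Q) (c := c)).fac (BinaryFan.mk
    (TypeCat.ofHom fun _ : PUnit.{u+1} => z) (TypeCat.ofHom fun _ : PUnit.{u+1} => z'))
      ⟨WalkingPair.right⟩)

lemma eq_pairEv (w : ((Φ J K fn).obj (FunctorToTypes.prod P Q)).obj.obj (op c)) :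
    pairEv K fn ((Ev J K fn c).map FunctorToTypes.prod.fst w)
      ((Ev J K fn c).map FunctorToTypes.prod.snd w) = w := by
  have := BinaryFan.IsLimit.hom_ext (isLimitPair K fn (P := P) (Q := Q) (c := c))
    (f := TypeCat.ofHom fun _ : PUnit.{u+1} => pairEv K fn
      ((Ev J K fn c).map FunctorToTypes.prod.fst w) ((Ev J K fn c).map FunctorToTypes.prod.snd w))
    (g := TypeCat.ofHom fun _ : PUnit.{u+1} => w)
    (by ext ⟨⟩; exact fst_pairEv K fn _ _) (by ext ⟨⟩; exact snd_pairEv K fn _ _)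
  exact congrArg (fun q => q PUnit.unit) this

section Ring

variable (R : Sheaf K CommRingCat.{u})

/-- The presheaf of sets underlying a sheaf of rings. -/
abbrev Pt : Dᵒᵖ ⥤ Type u := R.obj ⋙ forget CommRingCat.{u}

variable (J) in
/-- Sections of the pullback of the underlying sheaf of sets. -/
def Sec (c : C) : Type u := ((Φ J K fn).obj (Pt K R)).obj.obj (op c)

variable {R}

/-- Restriction of sections. -/
noncomputable def rs {c c' : C} (g : c' ⟶ c) (z : Sec J K fn R c) : Sec J K fn R c' :=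
  ((Φ J K fn).obj (Pt K R)).obj.map g.op z

variable (J) in
/-- The section given by an arrow and a section. -/
noncomputable def evR {c : C} {d : D} (ψ : c ⟶ fn.obj d) (r : R.obj.obj (op d)) : Sec J K fn R c :=
  ev J K fn (P := Pt K R) ψ r

lemma rs_evR {c c' : C} (g : c' ⟶ c) {d : D} (ψ : c ⟶ fn.obj d) (r : R.obj.obj (op d)) :
    rs K fn g (evR J K fn ψ r) = evR J K fn (g ≫ ψ) r :=
  map_ev fn (P := Pt K R) ψ g r

lemma evR_map {c : C} {d d' : D} (ψ : c ⟶ fn.obj d') (a : d' ⟶ d) (r : R.obj.obj (op d)) :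
    evR J K fn ψ ((R.obj.map a.op).hom r) = evR J K fn (ψ ≫ fn.map a) r :=
  ev_map fn (P := Pt K R) ψ a r

lemma rs_rs {c c' c'' : C} (g : c' ⟶ c) (h : c'' ⟶ c') (z : Sec J K fn R c) :
    rs K fn h (rs K fn g z) = rs K fn (h ≫ g) z :=
  (congrArg (fun q => q z) (((Φ J K fn).obj (Pt K R)).obj.map_comp g.op h.op)).symm

lemma rs_id {c : C} (z : Sec J K fn R c) : rs K fn (𝟙 c) z = z :=
  congrArg (fun q => q z) (((Φ J K fn).obj (Pt K R)).obj.map_id (op c))

theorem sec_ext {c : C} {z z' : Sec J K fn R c} {S : Sieve c} (hS : S ∈ J c)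
    (h : ∀ ⦃c' : C⦄ (g : c' ⟶ c), S g → rs K fn g z = rs K fn g z') : z = z' :=
  (Presieve.IsSheaf.isSeparated ((isSheaf_iff_isSheaf_of_type _ _).1
    ((Φ J K fn).obj (Pt K R)).property) S hS).ext (fun _ g hg => h g hg)

theorem exists_cover_evR {c : C} (z : Sec J K fn R c) :
    ∃ S ∈ J c, ∀ ⦃c' : C⦄ (g : c' ⟶ c), S g → ∃ (d : D) (ψ : c' ⟶ fn.obj d) (r : R.obj.obj (op d)),
      evR J K fn ψ r = rs K fn g z :=
  exists_cover_ev fn (P := Pt K R) z

theorem exists_cover_evR₂ {c : C} (z z' : Sec J K fn R c) :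
    ∃ S ∈ J c, ∀ ⦃c' : C⦄ (g : c' ⟶ c), S g → ∃ (d : D) (ψ : c' ⟶ fn.obj d)
      (r r' : R.obj.obj (op d)),
      evR J K fn ψ r = rs K fn g z ∧ evR J K fn ψ r' = rs K fn g z' := by
  obtain ⟨S₁, hS₁, H₁⟩ := exists_cover_evR K fn z
  obtain ⟨S₂, hS₂, H₂⟩ := exists_cover_evR K fn z'
  let T : Sieve c :=
    { arrows := fun c' g => ∃ (d : D) (ψ : c' ⟶ fn.obj d) (r r' : R.obj.obj (op d)),
        evR J K fn ψ r = rs K fn g z ∧ evR J K fn ψ r' = rs K fn g z'
      downward_closed := by
        rintro Y Z g ⟨d, ψ, r, r', e, e'⟩ h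
        exact ⟨d, h ≫ ψ, r, r', by rw [← rs_evR, e, rs_rs], by rw [← rs_evR, e', rs_rs]⟩ }
  refine ⟨T, J.transitive (J.intersection_covering hS₁ hS₂) _ (fun Y g hg => ?_), fun c' g hg => hg⟩
  obtain ⟨d₁, ψ₁, r₁, e₁⟩ := H₁ g hg.1
  obtain ⟨d₂, ψ₂, r₂, e₂⟩ := H₂ g hg.2
  obtain ⟨S, hS, H⟩ := exists_cover_prod (J := J) K fn ψ₁ ψ₂
  refine J.superset_covering (fun Z h hh => ?_) hS
  obtain ⟨d, a, b, ψ, ha, hb⟩ := H h hh
  exact ⟨d, ψ, (R.obj.map a.op).hom r₁, (R.obj.map b.op).hom r₂,
    by rw [evR_map, ha, ← rs_evR, e₁, rs_rs], by rw [evR_map, hb, ← rs_evR, e₂, rs_rs]⟩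

theorem exists_cover_evR₃ {c : C} (z z' z'' : Sec J K fn R c) :
    ∃ S ∈ J c, ∀ ⦃c' : C⦄ (g : c' ⟶ c), S g → ∃ (d : D) (ψ : c' ⟶ fn.obj d)
      (r r' r'' : R.obj.obj (op d)), evR J K fn ψ r = rs K fn g z ∧
        evR J K fn ψ r' = rs K fn g z' ∧ evR J K fn ψ r'' = rs K fn g z'' := by
  obtain ⟨S₁, hS₁, H₁⟩ := exists_cover_evR₂ K fn z z'
  obtain ⟨S₂, hS₂, H₂⟩ := exists_cover_evR K fn z''
  let T : Sieve c :=
    { arrows := fun c' g => ∃ (d : D) (ψ : c' ⟶ fn.obj d) (r r' r'' : R.obj.obj (op d)),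
        evR J K fn ψ r = rs K fn g z ∧ evR J K fn ψ r' = rs K fn g z' ∧
          evR J K fn ψ r'' = rs K fn g z''
      downward_closed := by
        rintro Y Z g ⟨d, ψ, r, r', r'', e, e', e''⟩ h
        exact ⟨d, h ≫ ψ, r, r', r'', by rw [← rs_evR, e, rs_rs], by rw [← rs_evR, e', rs_rs],
          by rw [← rs_evR, e'', rs_rs]⟩ }
  refine ⟨T, J.transitive (J.intersection_covering hS₁ hS₂) _ (fun Y g hg => ?_), fun c' g hg => hg⟩
  obtain ⟨d₁, ψ₁, r₁, r₁', e₁, e₁'⟩ := H₁ g hg.1
  obtain ⟨d₂, ψ₂, r₂, e₂⟩ := H₂ g hg.2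
  obtain ⟨S, hS, H⟩ := exists_cover_prod (J := J) K fn ψ₁ ψ₂
  refine J.superset_covering (fun Z h hh => ?_) hS
  obtain ⟨d, a, b, ψ, ha, hb⟩ := H h hh
  exact ⟨d, ψ, (R.obj.map a.op).hom r₁, (R.obj.map a.op).hom r₁', (R.obj.map b.op).hom r₂,
    by rw [evR_map, ha, ← rs_evR, e₁, rs_rs], by rw [evR_map, ha, ← rs_evR, e₁', rs_rs],
    by rw [evR_map, hb, ← rs_evR, e₂, rs_rs]⟩

variable (R)

/-- Multiplication. -/
def mulN : FunctorToTypes.prod (Pt K R) (Pt K R) ⟶ Pt K R where
  app d := TypeCat.ofHom fun p =>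
    (show (forget CommRingCat).obj (R.obj.obj d) from
      ((show R.obj.obj d from p.1) * (show R.obj.obj d from p.2) : R.obj.obj d))
  naturality d d' g := by ext p; exact (map_mul (R.obj.map g).hom p.1 p.2).symm

/-- Addition. -/
def addN : FunctorToTypes.prod (Pt K R) (Pt K R) ⟶ Pt K R where
  app d := TypeCat.ofHom fun p =>
    (show (forget CommRingCat).obj (R.obj.obj d) from
      ((show R.obj.obj d from p.1) + (show R.obj.obj d from p.2) : R.obj.obj d))
  naturality d d' g := by ext p; exact (map_add (R.obj.map g).hom p.1 p.2).symm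

/-- Negation. -/
def negN : Pt K R ⟶ Pt K R where
  app d := TypeCat.ofHom fun p =>
    (show (forget CommRingCat).obj (R.obj.obj d) from (- (show R.obj.obj d from p) : R.obj.obj d))
  naturality d d' g := by ext p; exact (map_neg (R.obj.map g).hom p).symm

/-- The one point presheaf. -/
abbrev pointP : Dᵒᵖ ⥤ Type u := (Functor.const _).obj PUnit.{u+1}

/-- The zero. -/
def zeroN : pointP ⟶ Pt K R where
  app d := TypeCat.ofHom fun _ => (show (forget CommRingCat).obj (R.obj.obj d) from (0 : R.obj.obj d))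
  naturality d d' g := by ext p; exact (map_zero (R.obj.map g).hom).symm

/-- The unit. -/
def oneN : pointP ⟶ Pt K R where
  app d := TypeCat.ofHom fun _ => (show (forget CommRingCat).obj (R.obj.obj d) from (1 : R.obj.obj d))
  naturality d d' g := by ext p; exact (map_one (R.obj.map g).hom).symm

/-- The point is terminal. -/
def isTerminalPoint : IsTerminal (pointP (D := D)) :=
  IsTerminal.ofUniqueHom (fun P => { app := fun d => TypeCat.ofHom fun _ => PUnit.unit })
    (fun P m => by ext d x; rfl)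

variable (J) in
/-- The point of `Φ` of the point. -/
noncomputable def ptEv (c : C) : ((Φ J K fn).obj (pointP (D := D))).obj.obj (op c) :=
  haveI : PreservesFiniteLimits (Ev J K fn c) := comp_preservesFiniteLimits _ _
  (IsTerminal.isTerminalObj (Ev J K fn c) pointP isTerminalPoint).from PUnit.{u+1} PUnit.unit

omit R in
lemma eq_ptEv {c : C} (w : ((Φ J K fn).obj (pointP (D := D))).obj.obj (op c)) :
    w = ptEv J K fn c :=
  haveI : PreservesFiniteLimits (Ev J K fn c) := comp_preservesFiniteLimits _ _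
  congrArg (fun q => q PUnit.unit)
    ((IsTerminal.isTerminalObj (Ev J K fn c) pointP isTerminalPoint).hom_ext
      (TypeCat.ofHom fun _ : PUnit.{u+1} => w) _)

variable {R} {c : C}

noncomputable instance : Mul (Sec J K fn R c) :=
  ⟨fun z z' => ((Φ J K fn).map (mulN K R)).hom.app (op c) (pairEv K fn z z')⟩

noncomputable instance : Add (Sec J K fn R c) :=
  ⟨fun z z' => ((Φ J K fn).map (addN K R)).hom.app (op c) (pairEv K fn z z')⟩

noncomputable instance : Neg (Sec J K fn R c) :=
  ⟨fun z => ((Φ J K fn).map (negN K R)).hom.app (op c) z⟩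

noncomputable instance : Zero (Sec J K fn R c) :=
  ⟨((Φ J K fn).map (zeroN K R)).hom.app (op c) (ptEv J K fn c)⟩

noncomputable instance : One (Sec J K fn R c) :=
  ⟨((Φ J K fn).map (oneN K R)).hom.app (op c) (ptEv J K fn c)⟩

lemma pairEv_ev {d : D} (ψ : c ⟶ fn.obj d) (r r' : R.obj.obj (op d)) :
    pairEv K fn (evR J K fn ψ r) (evR J K fn ψ r') =
      ev J K fn (P := FunctorToTypes.prod (Pt K R) (Pt K R)) ψ (r, r') := by
  rw [← eq_pairEv K fn (ev J K fn (P := FunctorToTypes.prod (Pt K R) (Pt K R)) ψ (r, r'))]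
  exact congrArg₂ (pairEv K fn)
    (app_ev fn (P := FunctorToTypes.prod (Pt K R) (Pt K R)) (Q := Pt K R) FunctorToTypes.prod.fst ψ (r, r')).symm
    (app_ev fn (P := FunctorToTypes.prod (Pt K R) (Pt K R)) (Q := Pt K R) FunctorToTypes.prod.snd ψ (r, r')).symm

lemma evR_mul {d : D} (ψ : c ⟶ fn.obj d) (r r' : R.obj.obj (op d)) :
    evR J K fn ψ (r * r') = evR J K fn ψ r * evR J K fn ψ r' :=
  ((congrArg (((Φ J K fn).map (mulN K R)).hom.app (op c)) (pairEv_ev K fn ψ r r')).trans
    (app_ev fn (mulN K R) ψ (r, r'))).symm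

lemma evR_add {d : D} (ψ : c ⟶ fn.obj d) (r r' : R.obj.obj (op d)) :
    evR J K fn ψ (r + r') = evR J K fn ψ r + evR J K fn ψ r' :=
  ((congrArg (((Φ J K fn).map (addN K R)).hom.app (op c)) (pairEv_ev K fn ψ r r')).trans
    (app_ev fn (addN K R) ψ (r, r'))).symm

lemma evR_neg {d : D} (ψ : c ⟶ fn.obj d) (r : R.obj.obj (op d)) :
    evR J K fn ψ (-r) = -evR J K fn ψ r :=
  (app_ev fn (negN K R) ψ r).symm

lemma evR_zero {d : D} (ψ : c ⟶ fn.obj d) : evR J K fn ψ (0 : R.obj.obj (op d)) = 0 :=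
  ((congrArg (((Φ J K fn).map (zeroN K R)).hom.app (op c))
    (eq_ptEv K fn (ev J K fn (P := pointP) ψ PUnit.unit)).symm).trans
    (app_ev fn (zeroN K R) ψ PUnit.unit)).symm

lemma evR_one {d : D} (ψ : c ⟶ fn.obj d) : evR J K fn ψ (1 : R.obj.obj (op d)) = 1 :=
  ((congrArg (((Φ J K fn).map (oneN K R)).hom.app (op c))
    (eq_ptEv K fn (ev J K fn (P := pointP) ψ PUnit.unit)).symm).trans
    (app_ev fn (oneN K R) ψ PUnit.unit)).symm

lemma rs_pairEv {P Q : Dᵒᵖ ⥤ Type u} {c' : C} (g : c' ⟶ c)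
    (z : ((Φ J K fn).obj P).obj.obj (op c)) (z' : ((Φ J K fn).obj Q).obj.obj (op c)) :
    ((Φ J K fn).obj (FunctorToTypes.prod P Q)).obj.map g.op (pairEv K fn z z') =
      pairEv K fn (((Φ J K fn).obj P).obj.map g.op z) (((Φ J K fn).obj Q).obj.map g.op z') := by
  rw [← eq_pairEv K fn (((Φ J K fn).obj (FunctorToTypes.prod P Q)).obj.map g.op (pairEv K fn z z'))]
  refine congrArg₂ (pairEv K fn) ?_ ?_
  · exact (NatTrans.naturality_apply ((Φ J K fn).map FunctorToTypes.prod.fst).hom g.op _).trans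
      (congrArg (((Φ J K fn).obj P).obj.map g.op) (fst_pairEv K fn z z'))
  · exact (NatTrans.naturality_apply ((Φ J K fn).map FunctorToTypes.prod.snd).hom g.op _).trans
      (congrArg (((Φ J K fn).obj Q).obj.map g.op) (snd_pairEv K fn z z'))

lemma rs_mul {c' : C} (g : c' ⟶ c) (z z' : Sec J K fn R c) :
    rs K fn g (z * z') = rs K fn g z * rs K fn g z' :=
  (NatTrans.naturality_apply ((Φ J K fn).map (mulN K R)).hom g.op _).symm.trans
    (congrArg (((Φ J K fn).map (mulN K R)).hom.app (op c')) (rs_pairEv K fn g z z'))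

lemma rs_add {c' : C} (g : c' ⟶ c) (z z' : Sec J K fn R c) :
    rs K fn g (z + z') = rs K fn g z + rs K fn g z' :=
  (NatTrans.naturality_apply ((Φ J K fn).map (addN K R)).hom g.op _).symm.trans
    (congrArg (((Φ J K fn).map (addN K R)).hom.app (op c')) (rs_pairEv K fn g z z'))

lemma rs_neg {c' : C} (g : c' ⟶ c) (z : Sec J K fn R c) :
    rs K fn g (-z) = -rs K fn g z :=
  (NatTrans.naturality_apply ((Φ J K fn).map (negN K R)).hom g.op _).symm

lemma rs_zero {c' : C} (g : c' ⟶ c) : rs K fn g (0 : Sec J K fn R c) = 0 :=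
  (NatTrans.naturality_apply ((Φ J K fn).map (zeroN K R)).hom g.op _).symm.trans
    (congrArg (((Φ J K fn).map (zeroN K R)).hom.app (op c')) (eq_ptEv K fn _))

lemma rs_one {c' : C} (g : c' ⟶ c) : rs K fn g (1 : Sec J K fn R c) = 1 :=
  (NatTrans.naturality_apply ((Φ J K fn).map (oneN K R)).hom g.op _).symm.trans
    (congrArg (((Φ J K fn).map (oneN K R)).hom.app (op c')) (eq_ptEv K fn _))

/-- Identities in three variables are checked on `ev`. -/
theorem sec_ext₃ {c : C} (F G : ∀ {c : C}, Sec J K fn R c → Sec J K fn R c → Sec J K fn R c → Sec J K fn R c)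
    (hF : ∀ {c c' : C} (g : c' ⟶ c) (x y z : Sec J K fn R c),
      rs K fn g (F x y z) = F (rs K fn g x) (rs K fn g y) (rs K fn g z))
    (hG : ∀ {c c' : C} (g : c' ⟶ c) (x y z : Sec J K fn R c),
      rs K fn g (G x y z) = G (rs K fn g x) (rs K fn g y) (rs K fn g z))
    (h : ∀ {c : C} {d : D} (ψ : c ⟶ fn.obj d) (a b e : R.obj.obj (op d)),
      F (evR J K fn ψ a) (evR J K fn ψ b) (evR J K fn ψ e) =
        G (evR J K fn ψ a) (evR J K fn ψ b) (evR J K fn ψ e))
    (x y z : Sec J K fn R c) : F x y z = G x y z := by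
  obtain ⟨S, hS, H⟩ := exists_cover_evR₃ K fn x y z
  refine sec_ext K fn hS (fun c' g hg => ?_)
  obtain ⟨d, ψ, a, b, e, ha, hb, he⟩ := H g hg
  rw [hF, hG, ← ha, ← hb, ← he, h]

noncomputable instance : CommRing (Sec J K fn R c) :=
  CommRing.ofMinimalAxioms
    (fun x y z => sec_ext₃ K fn (fun x y z => x + y + z) (fun x y z => x + (y + z))
      (by simp only [rs_add, implies_true]) (by simp only [rs_add, implies_true])
      (fun ψ a b e => by simp only [← evR_add, add_assoc]) x y z)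
    (fun x => sec_ext₃ K fn (fun x _ _ => 0 + x) (fun x _ _ => x)
      (by simp only [rs_add, rs_zero, implies_true]) (fun _ _ _ _ => rfl)
      (fun ψ a b e => by simp only [← evR_zero K fn ψ, ← evR_add, zero_add]) x x x)
    (fun x => sec_ext₃ K fn (fun x _ _ => -x + x) (fun _ _ _ => 0)
      (by simp only [rs_add, rs_neg, implies_true]) (by simp only [rs_zero, implies_true])
      (fun ψ a b e => by simp only [← evR_neg, ← evR_add, neg_add_cancel, evR_zero]) x x x)
    (fun x y z => sec_ext₃ K fn (fun x y z => x * y * z) (fun x y z => x * (y * z))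
      (by simp only [rs_mul, implies_true]) (by simp only [rs_mul, implies_true])
      (fun ψ a b e => by simp only [← evR_mul, mul_assoc]) x y z)
    (fun x y => sec_ext₃ K fn (fun x y _ => x * y) (fun x y _ => y * x)
      (by simp only [rs_mul, implies_true]) (by simp only [rs_mul, implies_true])
      (fun ψ a b e => by simp only [← evR_mul, mul_comm]) x y x)
    (fun x => sec_ext₃ K fn (fun x _ _ => 1 * x) (fun x _ _ => x)
      (by simp only [rs_mul, rs_one, implies_true]) (fun _ _ _ _ => rfl)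
      (fun ψ a b e => by simp only [← evR_one K fn ψ, ← evR_mul, one_mul]) x x x)
    (fun x y z => sec_ext₃ K fn (fun x y z => x * (y + z)) (fun x y z => x * y + x * z)
      (by simp only [rs_mul, rs_add, implies_true]) (by simp only [rs_mul, rs_add, implies_true])
      (fun ψ a b e => by simp only [← evR_mul, ← evR_add, mul_add]) x y z)

/-- Restriction as a ring map. -/
noncomputable def rsHom {c c' : C} (g : c' ⟶ c) : Sec J K fn R c →+* Sec J K fn R c' where
  toFun := rs K fn g
  map_one' := rs_one K fn g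
  map_mul' := rs_mul K fn g
  map_zero' := rs_zero K fn g
  map_add' := rs_add K fn g

variable (R)

/-- The presheaf of rings. -/
noncomputable def secP : Cᵒᵖ ⥤ CommRingCat.{u} where
  obj c := CommRingCat.of (Sec J K fn R c.unop)
  map g := CommRingCat.ofHom (rsHom K fn g.unop)
  map_id c := by ext z; exact rs_id K fn z
  map_comp g h := by ext z; exact (rs_rs K fn g.unop h.unop z).symm

/-- The sheaf of rings on the pullback of the underlying sheaf of sets. -/
noncomputable def secS : Sheaf J CommRingCat.{u} :=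
  ⟨secP (J := J) K fn R, (Presheaf.isSheaf_iff_isSheaf_forget J _ (forget CommRingCat.{u})).2
    (Presheaf.isSheaf_of_iso_iff
      (NatIso.ofComponents (fun _ => Iso.refl _) (fun _ => rfl) :
        secP (J := J) K fn R ⋙ forget CommRingCat.{u} ≅ ((Φ J K fn).obj (Pt K R)).obj) |>.2
      ((Φ J K fn).obj (Pt K R)).property)⟩

variable (J) in
/-- The canonical map. -/
noncomputable def unR : R ⟶ (fn.sheafPushforwardContinuous CommRingCat.{u} K J).obj (secS (J := J) K fn R) :=
  ⟨{ app := fun d => CommRingCat.ofHom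
        { toFun := fun r => evR J K fn (𝟙 (fn.obj d.unop)) r
          map_one' := evR_one K fn _
          map_mul' := evR_mul K fn _
          map_zero' := evR_zero K fn _
          map_add' := evR_add K fn _ }
     naturality := fun d d' g => by
       ext r
       change evR J K fn _ ((R.obj.map g).hom r) = rs K fn (fn.map g.unop) (evR J K fn _ r)
       rw [rs_evR, Category.comp_id]
       exact (evR_map K fn (𝟙 _) g.unop r).trans (by rw [Category.id_comp]) }⟩

/-- The pullback of sheaves of rings. -/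
noncomputable abbrev inv : Sheaf J CommRingCat.{u} := (fn.sheafPullback CommRingCat.{u} K J).obj R

/-- The adjunction. -/
noncomputable abbrev adjR := fn.sheafAdjunctionContinuous CommRingCat.{u} K J

/-- The unit on sections. -/
noncomputable def invUn (d : D) : R.obj.obj (op d) →+* (inv (J := J) K fn R).obj.obj (op (fn.obj d)) :=
  (((adjR (J := J) K fn).unit.app R).hom.app (op d)).hom

/-- The section of the pullback given by an arrow and a section. -/
noncomputable def eps {c : C} {d : D} (ψ : c ⟶ fn.obj d) :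
    R.obj.obj (op d) →+* (inv (J := J) K fn R).obj.obj (op c) :=
  ((inv (J := J) K fn R).obj.map ψ.op).hom.comp (invUn K fn R d)

lemma map_eps {c c' : C} (g : c' ⟶ c) {d : D} (ψ : c ⟶ fn.obj d) (r : R.obj.obj (op d)) :
    ((inv (J := J) K fn R).obj.map g.op).hom (eps (J := J) K fn R ψ r) = eps (J := J) K fn R (g ≫ ψ) r := by
  simp only [eps, op_comp, Functor.map_comp]
  rfl

lemma eps_map {c : C} {d d' : D} (ψ : c ⟶ fn.obj d') (a : d' ⟶ d) (r : R.obj.obj (op d)) :
    eps (J := J) K fn R ψ ((R.obj.map a.op).hom r) = eps (J := J) K fn R (ψ ≫ fn.map a) r := by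
  simp only [eps, op_comp, Functor.map_comp]
  exact congrArg ((inv (J := J) K fn R).obj.map ψ.op).hom
    (congrArg (fun q => q.hom r) (((adjR (J := J) K fn).unit.app R).hom.naturality a.op))

/-- The comparison to the pullback of sets. -/
noncomputable def toSec : inv (J := J) K fn R ⟶ secS K fn R :=
  ((adjR (J := J) K fn).homEquiv R (secS K fn R)).symm (unR J K fn R)

lemma toSec_eps {c : C} {d : D} (ψ : c ⟶ fn.obj d) (r : R.obj.obj (op d)) :
    ((toSec (J := J) K fn R).hom.app (op c)).hom (eps (J := J) K fn R ψ r) = evR J K fn ψ r := by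
  refine (congrArg (fun q => q.hom (invUn (J := J) K fn R d r))
    ((toSec (J := J) K fn R).hom.naturality ψ.op)).trans ?_
  have e : ((toSec (J := J) K fn R).hom.app (op (fn.obj d))).hom (invUn (J := J) K fn R d r) =
      evR J K fn (𝟙 (fn.obj d)) r :=
    congrArg (fun q => (q.hom.app (op d)).hom r) ((Adjunction.homEquiv_unit _ _ _ _).symm.trans
      (((adjR (J := J) K fn).homEquiv R (secS K fn R)).apply_symm_apply (unR J K fn R)))
  refine (congrArg (rs K fn ψ) e).trans ?_
  rw [rs_evR, Category.comp_id]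

/-- The comparison from the pullback of sets, as a map of sets. -/
noncomputable def ofSec : (Φ J K fn).obj (Pt K R) ⟶
    (sheafCompose J (forget CommRingCat.{u})).obj (inv (J := J) K fn R) :=
  ((adjΦ J K fn).homEquiv _ _).symm
    (Functor.whiskerRight ((adjR (J := J) K fn).unit.app R).hom (forget CommRingCat.{u}))

/-- The comparison from the pullback of sets, on sections. -/
noncomputable def ofSecApp (c : C) (z : Sec J K fn R c) : (inv (J := J) K fn R).obj.obj (op c) :=
  (ofSec (J := J) K fn R).hom.app (op c) z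

lemma ofSecApp_rs {c c' : C} (g : c' ⟶ c) (z : Sec J K fn R c) :
    ofSecApp K fn R c' (rs K fn g z) =
      ((inv (J := J) K fn R).obj.map g.op).hom (ofSecApp K fn R c z) :=
  NatTrans.naturality_apply (ofSec (J := J) K fn R).hom g.op z

lemma ofSecApp_evR {c : C} {d : D} (ψ : c ⟶ fn.obj d) (r : R.obj.obj (op d)) :
    ofSecApp K fn R c (evR J K fn ψ r) = eps (J := J) K fn R ψ r := by
  refine (ofSecApp_rs K fn R ψ _).trans ?_
  refine congrArg ((inv (J := J) K fn R).obj.map ψ.op).hom ?_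
  exact congrArg (fun q => q.app (op d) (show (Pt K R).obj (op d) from r)) ((Adjunction.homEquiv_unit _ _ _ _).symm.trans
    (((adjΦ J K fn).homEquiv (Pt K R)
      ((sheafCompose J (forget CommRingCat.{u})).obj (inv (J := J) K fn R))).apply_symm_apply
      (Functor.whiskerRight ((adjR (J := J) K fn).unit.app R).hom (forget CommRingCat.{u}))))

theorem inv_ext {c : C} {z z' : (inv (J := J) K fn R).obj.obj (op c)} {S : Sieve c} (hS : S ∈ J c)
    (h : ∀ ⦃c' : C⦄ (g : c' ⟶ c), S g → ((inv (J := J) K fn R).obj.map g.op).hom z =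
      ((inv (J := J) K fn R).obj.map g.op).hom z') : z = z' :=
  (Presieve.IsSheaf.isSeparated ((isSheaf_iff_isSheaf_of_type _ _).1
    ((sheafCompose J (forget CommRingCat.{u})).obj (inv (J := J) K fn R)).property) S hS).ext
      (fun _ g hg => h g hg)

/-- The comparison from the pullback of sets is a ring map. -/
noncomputable def ofSecHom (c : C) : Sec J K fn R c →+* (inv (J := J) K fn R).obj.obj (op c) where
  toFun := ofSecApp K fn R c
  map_one' := by
    obtain ⟨S, hS, H⟩ := exists_cover_evR K fn (1 : Sec J K fn R c)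
    refine inv_ext K fn R hS (fun c' g hg => ?_)
    obtain ⟨d, ψ, r, hr⟩ := H g hg
    rw [← ofSecApp_rs, rs_one, map_one, ← evR_one K fn ψ, ofSecApp_evR, map_one]
  map_zero' := by
    obtain ⟨S, hS, H⟩ := exists_cover_evR K fn (0 : Sec J K fn R c)
    refine inv_ext K fn R hS (fun c' g hg => ?_)
    obtain ⟨d, ψ, r, hr⟩ := H g hg
    rw [← ofSecApp_rs, rs_zero, map_zero, ← evR_zero K fn ψ, ofSecApp_evR, map_zero]
  map_mul' x y := by
    obtain ⟨S, hS, H⟩ := exists_cover_evR₂ K fn x y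
    refine inv_ext K fn R hS (fun c' g hg => ?_)
    obtain ⟨d, ψ, r, r', hr, hr'⟩ := H g hg
    rw [← ofSecApp_rs, rs_mul, map_mul, ← ofSecApp_rs, ← ofSecApp_rs, ← hr, ← hr', ← evR_mul,
      ofSecApp_evR, ofSecApp_evR, ofSecApp_evR, map_mul]
  map_add' x y := by
    obtain ⟨S, hS, H⟩ := exists_cover_evR₂ K fn x y
    refine inv_ext K fn R hS (fun c' g hg => ?_)
    obtain ⟨d, ψ, r, r', hr, hr'⟩ := H g hg
    rw [← ofSecApp_rs, rs_add, map_add, ← ofSecApp_rs, ← ofSecApp_rs, ← hr, ← hr', ← evR_add,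
      ofSecApp_evR, ofSecApp_evR, ofSecApp_evR, map_add]

/-- The comparison from the pullback of sets as a map of sheaves of rings. -/
noncomputable def ofSecR : secS K fn R ⟶ inv (J := J) K fn R :=
  ⟨{ app := fun c => CommRingCat.ofHom (ofSecHom K fn R c.unop)
     naturality := fun c c' g => by ext z; exact ofSecApp_rs K fn R g.unop z }⟩

lemma toSec_ofSecR : toSec (J := J) K fn R ≫ ofSecR K fn R = 𝟙 _ := by
  apply ((adjR (J := J) K fn).homEquiv R _).injective
  rw [Adjunction.homEquiv_naturality_right, toSec, Equiv.apply_symm_apply, Adjunction.homEquiv_id]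
  apply Sheaf.hom_ext
  ext d r
  refine (ofSecApp_evR K fn R (𝟙 (fn.obj d.unop)) r).trans ?_
  change ((inv (J := J) K fn R).obj.map (𝟙 _)).hom (invUn K fn R d.unop r) = _
  exact congrArg (fun q => q.hom (invUn (J := J) K fn R d.unop r))
    ((inv (J := J) K fn R).obj.map_id (op (fn.obj d.unop)))

/-- Sections of the pullback are locally images of sections. -/
theorem exists_cover_eps {c : C} (z : (inv (J := J) K fn R).obj.obj (op c)) :
    ∃ S ∈ J c, ∀ ⦃c' : C⦄ (g : c' ⟶ c), S g → ∃ (d : D) (ψ : c' ⟶ fn.obj d) (r : R.obj.obj (op d)),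
      eps (J := J) K fn R ψ r = ((inv (J := J) K fn R).obj.map g.op).hom z := by
  obtain ⟨S, hS, H⟩ := exists_cover_evR K fn (((toSec (J := J) K fn R).hom.app (op c)).hom z)
  refine ⟨S, hS, fun c' g hg => ?_⟩
  obtain ⟨d, ψ, r, hr⟩ := H g hg
  refine ⟨d, ψ, r, ?_⟩
  have e : ofSecApp K fn R c (((toSec (J := J) K fn R).hom.app (op c)).hom z) = z :=
    congrArg (fun q => (q.hom.app (op c)).hom z) (toSec_ofSecR K fn R)
  rw [← ofSecApp_evR, hr, ofSecApp_rs, e]

/-- Equal images come from locally equal sections. -/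
theorem exists_cover_eps_eq {c : C} {d : D} (ψ : c ⟶ fn.obj d) (r r' : R.obj.obj (op d))
    (h : eps (J := J) K fn R ψ r = eps (J := J) K fn R ψ r') :
    ∃ S ∈ J c, ∀ ⦃c' : C⦄ (g : c' ⟶ c), S g → ∃ (d' : D) (e : d' ⟶ d) (ψ' : c' ⟶ fn.obj d'),
      (R.obj.map e.op).hom r = (R.obj.map e.op).hom r' ∧ ψ' ≫ fn.map e = g ≫ ψ :=
  exists_cover_ev_eq (P := Pt K R) fn ψ r r' ((toSec_eps K fn R ψ r).symm.trans
    ((congrArg ((toSec (J := J) K fn R).hom.app (op c)).hom h).trans (toSec_eps K fn R ψ r')))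

end Ring

end Groth.Agent.Lib.RMorLocal.InvRing
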