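import Groth.Agent.Lib.RMorLocal.Mono
import Groth.Agent.Lib.RMorLocal.InvRing

/-!
# Flat morphisms of ringed sites
-/

set_option linter.style.haveILetI false

universe u

open CategoryTheory Limits Opposite TensorProduct

namespace Groth.Agent.Lib.RMorLocal.FlatMor

open Groth.Agent.Lib.ModTensor.Local Groth.Agent.Lib.RMorLocal.Pull
  Groth.Agent.Lib.RMorLocal.Kill Groth.Agent.Lib.FlatCrit

variable {C D : Type u} [SmallCategory C] [SmallCategory D] {J : GrothendieckTopology C}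
  {K : GrothendieckTopology D} {O_C : Sheaf J CommRingCat.{u}} {O_D : Sheaf K CommRingCat.{u}}
  {f : _root_.ModSite.RMor O_C O_D}

variable (f) in
/-- The images in the pulled back ring. -/
noncomputable abbrev ep {c : C} {d : D} (ψ : c ⟶ f.fn.obj d) :
    O_D.obj.obj (op d) →+* f.invRing.obj.obj (op c) :=
  InvRing.eps (J := J) K f.fn O_D ψ

variable (f) in
/-- The structure map from the pulled back ring. -/
noncomputable abbrev isharp (c : C) : f.invRing.obj.obj (op c) →+* O_C.obj.obj (op c) :=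
  (f.invSharp.hom.app (op c)).hom

lemma isharp_ep {c : C} {d : D} (ψ : c ⟶ f.fn.obj d) (r : O_D.obj.obj (op d)) :
    isharp f c (ep f ψ r) = sh f ψ r := by
  refine (congrArg (fun q => q.hom (InvRing.invUn (J := J) K f.fn O_D d r))
    (f.invSharp.hom.naturality ψ.op)).trans (congrArg (O_C.obj.map ψ.op).hom ?_)
  exact congrArg (fun q => (q.hom.app (op d)).hom r) ((Adjunction.homEquiv_unit _ _ _ _).symm.trans
    (((f.fn.sheafAdjunctionContinuous CommRingCat.{u} K J).homEquiv O_D O_C).apply_symm_apply f.sharp))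

/-- Finitely many sections of the pulled back ring come locally from one object. -/
theorem exists_cover_ep {n : ℕ} : ∀ {c : C} {d : D} (ψ : c ⟶ f.fn.obj d)
    (z : Fin n → f.invRing.obj.obj (op c)),
    ∃ S ∈ J c, ∀ ⦃c' : C⦄ (g : c' ⟶ c), S g → ∃ (d' : D) (a : d' ⟶ d) (ψ' : c' ⟶ f.fn.obj d')
      (r : Fin n → O_D.obj.obj (op d')), ψ' ≫ f.fn.map a = g ≫ ψ ∧
        ∀ i, ep f ψ' (r i) = (f.invRing.obj.map g.op).hom (z i) := by
  induction n with
  | zero =>
    intro c d ψ z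
    exact ⟨⊤, J.top_mem c, fun c' g _ => ⟨d, 𝟙 d, g ≫ ψ, Fin.elim0, by simp, fun i => i.elim0⟩⟩
  | succ n ih =>
    intro c d ψ z
    let T : Sieve c :=
      { arrows := fun c' g => ∃ (d' : D) (a : d' ⟶ d) (ψ' : c' ⟶ f.fn.obj d')
          (r : Fin (n + 1) → O_D.obj.obj (op d')), ψ' ≫ f.fn.map a = g ≫ ψ ∧
            ∀ i, ep f ψ' (r i) = (f.invRing.obj.map g.op).hom (z i)
        downward_closed := by
          rintro Y Z g ⟨d', a, ψ', r, ha, hr⟩ h
          refine ⟨d', a, h ≫ ψ', r, by simp only [Category.assoc, ha], fun i => ?_⟩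
          rw [ep, ← InvRing.map_eps, op_comp, Functor.map_comp]
          exact congrArg (f.invRing.obj.map h.op).hom (hr i) }
    obtain ⟨S₁, hS₁, H₁⟩ := ih ψ (fun i => z i.succ)
    obtain ⟨S₂, hS₂, H₂⟩ := InvRing.exists_cover_eps (J := J) K f.fn O_D (z 0)
    refine ⟨T, J.transitive (J.intersection_covering hS₁ hS₂) _ (fun Y g hg => ?_),
      fun c' g hg => hg⟩
    obtain ⟨d₁, a₁, ψ₁, r₁, ha₁, hr₁⟩ := H₁ g hg.1
    obtain ⟨d₂, ψ₂, r₂, hr₂⟩ := H₂ g hg.2
    obtain ⟨S, hS, H⟩ := Basic.exists_cover_prod (J := J) K f.fn ψ₁ ψ₂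
    refine J.superset_covering (fun Z h hh => ?_) hS
    obtain ⟨d', a, b, ψ', ha, hb⟩ := H h hh
    refine ⟨d', a ≫ a₁, ψ', Fin.cons ((O_D.obj.map b.op).hom r₂)
      (fun i => (O_D.obj.map a.op).hom (r₁ i)), ?_, fun i => ?_⟩
    · rw [Functor.map_comp, ← Category.assoc, ha, Category.assoc, ha₁, Category.assoc]
    · induction i using Fin.cases with
      | zero =>
        rw [Fin.cons_zero, ep, InvRing.eps_map, hb, ← InvRing.map_eps, op_comp, Functor.map_comp]
        exact congrArg (f.invRing.obj.map h.op).hom hr₂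
      | succ i =>
        rw [Fin.cons_succ, ep, InvRing.eps_map, ha, ← InvRing.map_eps, op_comp, Functor.map_comp]
        exact congrArg (f.invRing.obj.map h.op).hom (hr₁ i)

/-- Finitely many sections vanishing in the pulled back ring vanish locally at one object. -/
theorem exists_cover_ep_zero {n : ℕ} : ∀ {c : C} {d : D} (ψ : c ⟶ f.fn.obj d)
    (r : Fin n → O_D.obj.obj (op d)), (∀ i, ep f ψ (r i) = 0) →
    ∃ S ∈ J c, ∀ ⦃c' : C⦄ (g : c' ⟶ c), S g → ∃ (d' : D) (a : d' ⟶ d) (ψ' : c' ⟶ f.fn.obj d'),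
      ψ' ≫ f.fn.map a = g ≫ ψ ∧ ∀ i, (O_D.obj.map a.op).hom (r i) = 0 := by
  induction n with
  | zero =>
    intro c d ψ r _
    exact ⟨⊤, J.top_mem c, fun c' g _ => ⟨d, 𝟙 d, g ≫ ψ, by simp, fun i => i.elim0⟩⟩
  | succ n ih =>
    intro c d ψ r hr
    let T : Sieve c :=
      { arrows := fun c' g => ∃ (d' : D) (a : d' ⟶ d) (ψ' : c' ⟶ f.fn.obj d'),
          ψ' ≫ f.fn.map a = g ≫ ψ ∧ ∀ i, (O_D.obj.map a.op).hom (r i) = 0
        downward_closed := by
          rintro Y Z g ⟨d', a, ψ', ha, h0⟩ h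
          exact ⟨d', a, h ≫ ψ', by simp only [Category.assoc, ha], h0⟩ }
    obtain ⟨S₁, hS₁, H₁⟩ := InvRing.exists_cover_eps_eq (J := J) K f.fn O_D ψ (r 0) 0
      ((hr 0).trans (map_zero _).symm)
    refine ⟨T, J.transitive hS₁ _ (fun Y g hg => ?_), fun c' g hg => hg⟩
    obtain ⟨d₁, a₁, ψ₁, e₁, ha₁⟩ := H₁ g hg
    rw [map_zero] at e₁
    obtain ⟨S₂, hS₂, H₂⟩ := ih ψ₁ (fun i => (O_D.obj.map a₁.op).hom (r i.succ)) (fun i => by
      rw [ep, InvRing.eps_map, ha₁, ← InvRing.map_eps]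
      exact (congrArg (f.invRing.obj.map g.op).hom (hr i.succ)).trans (map_zero _))
    refine J.superset_covering (fun Z h hh => ?_) hS₂
    obtain ⟨d', a, ψ', ha, h0⟩ := H₂ h hh
    refine ⟨d', a ≫ a₁, ψ', ?_, fun i => ?_⟩
    · rw [Functor.map_comp, ← Category.assoc, ha, Category.assoc, ha₁, Category.assoc]
    · rw [op_comp, Rel.map_comp_apply]
      induction i using Fin.cases with
      | zero => rw [e₁, map_zero]
      | succ i => exact h0 i

variable (hf : _root_.ModSite.IsFlat f.baseMod) {M₁ M₂ : _root_.ModSite.Mod O_D} (φ : M₁ ⟶ M₂)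

include hf in
/-- Sections which vanish in the target vanish locally. -/
theorem zero_of_killed [Mono φ] {c : C} {N : ℕ} (x : Fin N → (Sym f M₁).obj (op c))
    (α : Fin N → O_C.obj.obj (op c))
    (hz : Killed (∑ i, α i • b f M₂ (c := op c) (x i).1.2 (φ.val.app (op (x i).1.1) (x i).2))) :
    ∃ T ∈ J c, ∀ ⦃c' : C⦄ (g : c' ⟶ c), T g →
      res (PMod f M₁) g.op (∑ i, α i • pl f M₁ (x i).1.2 (x i).2) = 0 := by
  classical
  let Good : Sieve c :=
    Presheaf.equalizerSieve (F := (PMod f M₁).presheaf) (X := op c)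
      (∑ i, α i • pl f M₁ (x i).1.2 (x i).2) (0 : (PMod f M₁).obj (op c))
  suffices hGood : Good ∈ J c from
    ⟨Good, hGood, fun c' g hg => (show res (PMod f M₁) g.op _ = res (PMod f M₁) g.op 0 from
      hg).trans (map_zero _)⟩
  rcases Nat.eq_zero_or_pos N with rfl | hN
  · refine J.superset_covering (fun Y g _ => ?_) (J.top_mem c)
    change res (PMod f M₁) g.op _ = res (PMod f M₁) g.op 0
    rw [Finset.univ_eq_empty, Finset.sum_empty]
    rfl
  obtain ⟨P₀, E, hkill⟩ := hz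
  let P : Finset (Cone.Pr f.fn c) := P₀ ∪ Finset.univ.image (fun i => (x i).1)
  have hP : P.Nonempty :=
    ⟨(x ⟨0, hN⟩).1, Finset.mem_union_right _ (Finset.mem_image_of_mem _ (Finset.mem_univ _))⟩
  refine J.transitive (Cone.coneSieve_mem K f.fn P hP E) _ (fun c' g hg => ?_)
  obtain ⟨X⟩ := hg
  have hx : ∀ i, (x i).1 ∈ P := fun i =>
    Finset.mem_union_right _ (Finset.mem_image_of_mem _ (Finset.mem_univ _))
  let m : Fin N → _root_.ModSite.sect M₁ X.d := fun i =>
    res (R := O_D.obj) M₁.val (X.π _ (hx i)).op (x i).2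
  let fm : Fin N → _root_.ModSite.sect M₂ X.d := fun i => φ.val.app (op X.d) (m i)
  let β : Fin N → O_C.obj.obj (op c') := fun i => (O_C.obj.map g.op).hom (α i)
  have hsum : ∑ i, fm i ⊗ₜ[O_D.obj.obj (op X.d)] toOb f X.ψ (β i) = 0 := by
    refine Eq.trans ?_ (hkill P Finset.subset_union_left E (Finset.Subset.refl _) g X)
    refine Eq.trans ?_ (map_sum (phi X) _ _).symm
    refine Finset.sum_congr rfl fun i _ => ?_
    refine Eq.trans ?_ (phi_smul_b X (x i).1.2 (hx i) _ _).symm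
    exact congrArg (· ⊗ₜ[O_D.obj.obj (op X.d)] toOb f X.ψ (β i))
      (res_app (R := O_D.obj) φ.val _ _)
  obtain ⟨L, cc, k, A, y₀, hy₀, hA⟩ := exists_vanishesTrivially_sumElim (R := O_D.obj.obj (op X.d))
    fm (fun i => toOb f X.ψ (β i)) hsum
  let y : Fin k → O_C.obj.obj (op c') := fun j => (show O_C.obj.obj (op c') from y₀ j)
  have hy : ∀ i, Sum.elim β (fun _ => 0) i = ∑ j, sh f X.ψ (A i j) * y j := fun i => by
    refine Eq.trans ?_ (hy₀ i)
    cases i <;> rfl
  -- the coefficients are related over the pulled back ring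
  let yb : Fin k → _root_.ModSite.sect f.baseMod c' := fun j => y j
  have hrel : ∀ i : Fin L, ∑ j, ep f X.ψ (A (Sum.inr i) j) • yb j = 0 := fun i => by
    refine Eq.trans (Finset.sum_congr rfl fun j _ => ?_) (hy (Sum.inr i)).symm
    exact congrArg (· * y j) (isharp_ep X.ψ _)
  have hT := Rel.trivSieve_mem (R := f.invRing.obj) (U := c') (Iff.crit_of_isFlat hf)
    (fun i j => ep f X.ψ (A (Sum.inr i) j)) yb hrel
  refine J.transitive hT _ (fun c₁ g₁ hg₁ => ?_)
  obtain ⟨l, t₀, a₀, hyt₀, ha₀⟩ := hg₁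
  let t : Fin l → O_C.obj.obj (op c₁) := fun q => t₀ q
  have hyt : ∀ j, (O_C.obj.map g₁.op).hom (y j) = ∑ q, isharp f c₁ (a₀ j q) * t q := hyt₀
  let e := (finProdFinEquiv : Fin k × Fin l ≃ Fin (k * l))
  obtain ⟨R₂, hR₂, H₂⟩ := exists_cover_ep (f := f) (g₁ ≫ X.ψ)
    (fun p => a₀ (e.symm p).1 (e.symm p).2)
  refine J.transitive hR₂ _ (fun c₂ g₂ hg₂ => ?_)
  obtain ⟨d₁, π₁, ψ₁, r₁, hψ₁, hr₁⟩ := H₂ g₂ hg₂
  let a₁ : Fin k → Fin l → O_D.obj.obj (op d₁) := fun j q => r₁ (e (j, q))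
  have ha₁ : ∀ j q, ep f ψ₁ (a₁ j q) = (f.invRing.obj.map g₂.op).hom (a₀ j q) := fun j q => by
    simpa [a₁] using hr₁ (e (j, q))
  let e' := (finProdFinEquiv : Fin L × Fin l ≃ Fin (L * l))
  obtain ⟨R₃, hR₃, H₃⟩ := exists_cover_ep_zero (f := f) ψ₁
    (fun p => ∑ j, a₁ j (e'.symm p).2 * (O_D.obj.map π₁.op).hom (A (Sum.inr (e'.symm p).1) j))
    (fun p => by
      rw [map_sum]
      have := congrArg (f.invRing.obj.map g₂.op).hom (ha₀ (e'.symm p).1 (e'.symm p).2)
      rw [map_sum, map_zero] at this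
      refine Eq.trans (Finset.sum_congr rfl fun j _ => ?_) this
      rw [map_mul, map_mul, ha₁, ep, InvRing.eps_map, hψ₁, InvRing.map_eps, InvRing.map_eps])
  refine J.superset_covering (fun c₃ g₃ hg₃ => ?_) hR₃
  obtain ⟨d₂, π₂, ψ₂, hψ₂, h0⟩ := H₃ g₃ hg₃
  let a : Fin k → Fin l → O_D.obj.obj (op d₂) := fun j q => (O_D.obj.map π₂.op).hom (a₁ j q)
  let B : Fin N ⊕ Fin L → Fin k → O_D.obj.obj (op d₂) := fun i j =>
    (O_D.obj.map π₂.op).hom ((O_D.obj.map π₁.op).hom (A i j))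
  let m' : Fin N → _root_.ModSite.sect M₁ d₂ := fun i =>
    res (R := O_D.obj) M₁.val (π₂ ≫ π₁).op (m i)
  have hB : ∀ (i : Fin L) q, ∑ j, a j q * B (Sum.inr i) j = 0 := fun i q => by
    have := h0 (e' (i, q))
    simpa [a, B, map_sum, map_mul] using this
  have hv : ∀ q, ∑ i, (∑ j, a j q * B (Sum.inl i) j) • m' i = 0 := fun q => by
    haveI := (ModTensor.Monoidal.adj.{u, u, u} O_D).isRightAdjoint
    have hinj := (PresheafOfModules.mono_iff_surjective
      ((ModTensor.Monoidal.G.{u, u, u} O_D).map φ)).1 inferInstance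
    apply @hinj (op d₂)
    refine Eq.trans ?_ (map_zero (φ.val.app (op d₂)).hom).symm
    refine (map_sum (φ.val.app (op d₂)).hom _ _).trans ?_
    refine (Finset.sum_congr rfl fun i _ =>
      (φ.val.app (op d₂)).hom.map_smul _ _).trans ?_
    let w : Fin N ⊕ Fin L → _root_.ModSite.sect M₂ d₂ := fun i =>
      res (R := O_D.obj) M₂.val (π₂ ≫ π₁).op (Sum.elim fm cc i)
    have hA' : ∀ j, ∑ i, B i j • w i = 0 := fun j => by
      have h₀ := congrArg (res (R := O_D.obj) M₂.val (π₂ ≫ π₁).op) (hA j)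
      rw [map_sum, map_zero] at h₀
      refine Eq.trans (Finset.sum_congr rfl fun i _ => ?_) h₀
      refine Eq.trans ?_ (res_smul (R := O_D.obj) M₂.val _ _ _).symm
      simp only [B, w, op_comp, Rel.map_comp_apply]
    have h₁ : ∑ i, (∑ j, a j q * B i j) • w i = 0 := by
      simp only [Finset.sum_smul, mul_smul]
      rw [Finset.sum_comm]
      simp only [← Finset.smul_sum, hA', smul_zero, Finset.sum_const_zero]
    rw [Fintype.sum_sum_type] at h₁
    simp only [hB, zero_smul, Finset.sum_const_zero, add_zero] at h₁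
    refine Eq.trans (Finset.sum_congr rfl fun i _ => ?_) h₁
    exact congrArg (_ • ·) (res_app (R := O_D.obj) φ.val _ (m i))
  let G₃ : c₃ ⟶ c := ((g₃ ≫ g₂) ≫ g₁) ≫ g
  change res (PMod f M₁) G₃.op _ = res (PMod f M₁) G₃.op 0
  refine Eq.trans ?_ (map_zero (res (PMod f M₁) G₃.op)).symm
  refine (map_sum (res (PMod f M₁) G₃.op) _ _).trans ?_
  have hψ : ψ₂ ≫ f.fn.map (π₂ ≫ π₁) = ((g₃ ≫ g₂) ≫ g₁) ≫ X.ψ := by
    rw [Functor.map_comp, ← Category.assoc, hψ₂, Category.assoc, hψ₁]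
    simp only [Category.assoc]
  let T : Fin l → O_C.obj.obj (op c₃) := fun q =>
    (O_C.obj.map g₃.op).hom ((O_C.obj.map g₂.op).hom (t q))
  have hy' : ∀ j, (O_C.obj.map ((g₃ ≫ g₂) ≫ g₁).op).hom (y j) =
      ∑ q, sh f ψ₂ (a j q) * T q := fun j => by
    simp only [op_comp, Rel.map_comp_apply, hyt, map_sum, map_mul, T]
    refine Finset.sum_congr rfl fun q _ => congrArg (· * _) ?_
    rw [← sh_map, hψ₂, ← sh_res]
    refine congrArg (O_C.obj.map g₃.op).hom ?_
    rw [← isharp_ep, ha₁]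
    exact (congrArg (fun z => z.hom (a₀ j q)) (f.invSharp.hom.naturality g₂.op)).symm
  have hterm : ∀ i, res (PMod f M₁) G₃.op (α i • pl f M₁ (x i).1.2 (x i).2) =
      ∑ q, T q • pl f M₁ ψ₂ ((∑ j, a j q * B (Sum.inl i) j) • m' i) := fun i => by
    have e₁ : res (PMod f M₁) G₃.op (α i • pl f M₁ (x i).1.2 (x i).2) =
        (O_C.obj.map ((g₃ ≫ g₂) ≫ g₁).op).hom (β i) • pl f M₁ ψ₂ (m' i) := by
      rw [res_smul]
      refine congrArg₂ (· • ·) ?_ ?_
      · simp only [G₃, β, op_comp, Rel.map_comp_apply]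
      · refine (res_pl f M₁ G₃ _ _).trans ?_
        have e₂ : G₃ ≫ (x i).1.2 = ψ₂ ≫ f.fn.map ((π₂ ≫ π₁) ≫ X.π _ (hx i)) := by
          refine (Category.assoc _ _ _).trans ?_
          rw [← X.hπ _ (hx i), ← Category.assoc, ← hψ, Category.assoc, ← Functor.map_comp]
        rw [e₂, ← pl_res, op_comp, res_comp]
    refine e₁.trans ?_
    have e₃ : β i = ∑ j, sh f X.ψ (A (Sum.inl i) j) * y j := hy (Sum.inl i)
    simp only [e₃, map_sum, map_mul, hy', Finset.mul_sum, Finset.sum_smul]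
    rw [Finset.sum_comm]
    refine Finset.sum_congr rfl fun q _ => ?_
    refine Eq.trans ?_ (congrArg (T q • ·)
      (map_sum (AddMonoidHom.mk' (pl f M₁ ψ₂) (pl_add f M₁ ψ₂)) _ _)).symm
    rw [Finset.smul_sum]
    refine Finset.sum_congr rfl fun j _ => ?_
    rw [AddMonoidHom.mk'_apply, pl_smul, smul_smul]
    refine congrArg (· • _) ?_
    have e₄ : (O_C.obj.map ((g₃ ≫ g₂) ≫ g₁).op).hom (sh f X.ψ (A (Sum.inl i) j)) =
        sh f ψ₂ (B (Sum.inl i) j) := by
      rw [sh_res, ← hψ, sh_map, op_comp, Rel.map_comp_apply]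
    rw [e₄, map_mul]
    ring
  simp only [hterm]
  rw [Finset.sum_comm]
  refine Finset.sum_eq_zero fun q _ => ?_
  rw [← Finset.smul_sum]
  have h₂ := congrArg (AddMonoidHom.mk' (pl f M₁ ψ₂) (pl_add f M₁ ψ₂)) (hv q)
  rw [map_sum, map_zero] at h₂
  exact (congrArg (T q • ·) h₂).trans (smul_zero _)

include hf in
/-- `f^*` preserves monomorphisms along a flat morphism. -/
theorem mono_pull_map [Mono φ] : Mono (f.pull.map φ) := by
  classical
  let q := (ModTensor.Monoidal.G.{u, u, u} O_C).map (f.pull.map φ)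
  haveI : PresheafOfModules.IsLocallyInjective J q := by
    refine ⟨fun {U} z z' hzz => ?_⟩
    suffices H : ∀ w : (PMod f M₁).obj U, q.app U w = 0 →
        ∃ T ∈ J U.unop, ∀ ⦃Y : C⦄ (g : Y ⟶ U.unop), T g → res (PMod f M₁) g.op w = 0 by
      obtain ⟨T, hT, h0⟩ := H (show (PMod f M₁).obj U from (z : (PMod f M₁).obj U) - z')
        ((map_sub (q.app U).hom _ _).trans (sub_eq_zero.2 hzz))
      refine J.superset_covering (fun Y g hg => ?_) hT
      exact sub_eq_zero.1 ((map_sub (res (PMod f M₁) g.op) _ _).symm.trans (h0 g hg))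
    intro w hw
    let Good : Sieve U.unop :=
      Presheaf.equalizerSieve (F := (PMod f M₁).presheaf) w (0 : (PMod f M₁).obj U)
    refine ⟨Good, ?_, fun Y g hg =>
      (show res (PMod f M₁) g.op _ = res (PMod f M₁) g.op 0 from hg).trans (map_zero _)⟩
    obtain ⟨R₁, hR₁, hlift⟩ := exists_cover_eps f M₁ (c := U.unop) (fun _ : Fin 1 => w)
    refine J.transitive hR₁ _ (fun c' g hg => ?_)
    obtain ⟨z, hz⟩ := hlift g hg
    obtain ⟨N, x, α, hα⟩ := Flat.exists_common_support z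
    let z₂ : (Fr f M₂).obj (op c') :=
      ∑ i, α 0 i • b f M₂ (c := op c') (x i).1.2 (φ.val.app (op (x i).1.1) (x i).2)
    have hw₁ : res (PMod f M₁) g.op w = ∑ i, α 0 i • pl f M₁ (x i).1.2 (x i).2 := by
      refine (hz 0).symm.trans ((congrArg _ (hα 0)).trans ?_)
      rw [map_sum]
      exact Finset.sum_congr rfl fun i _ =>
        (((eps f M₁).app (op c')).hom.map_smul _ _).trans (congrArg (_ • ·) (eps_b f _ _ _))
    have hz₂ : (eps f M₂).app (op c') z₂ = 0 := by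
      have h0 : q.app (op c') (res (PMod f M₁) g.op w) = 0 :=
        (res_app (R := O_C.obj) q g.op w).trans
          ((congrArg (res (PMod f M₂) g.op) hw).trans (map_zero _))
      rw [hw₁, map_sum] at h0
      refine Eq.trans ?_ h0
      refine (map_sum ((eps f M₂).app (op c')).hom _ _).trans (Finset.sum_congr rfl fun i _ => ?_)
      refine (((eps f M₂).app (op c')).hom.map_smul _ _).trans ?_
      refine (congrArg (α 0 i • ·) ((eps_b f M₂ (c := op c') (x i).1.2 _).trans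
        (Mono.map_pl φ (x i).1.2 (x i).2).symm)).trans ?_
      exact ((q.app (op c')).hom.map_smul _ _).symm
    obtain ⟨R₂, hR₂, hspan⟩ := exists_cover_span f M₂ hz₂
    refine J.transitive hR₂ _ (fun c'' h hh => ?_)
    let x' : Fin N → (Sym f M₁).obj (op c'') := fun i =>
      mkSym f M₁ (c := op c'') (h ≫ (x i).1.2) (x i).2
    have e : res (Fr f M₂) h.op z₂ = ∑ i, (O_C.obj.map h.op).hom (α 0 i) •
        b f M₂ (c := op c'') (x' i).1.2 (φ.val.app (op (x' i).1.1) (x' i).2) := by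
      simp only [z₂, map_sum, res_smul, res_b]
      rfl
    obtain ⟨R₃, hR₃, hzero⟩ := zero_of_killed hf φ x'
      (fun i => (O_C.obj.map h.op).hom (α 0 i)) (killed_of_mem_span (e ▸ hspan h hh))
    refine J.superset_covering (fun Z k hk => ?_) hR₃
    change res (PMod f M₁) ((k ≫ h) ≫ g).op w = res (PMod f M₁) ((k ≫ h) ≫ g).op 0
    rw [map_zero, op_comp, res_comp, hw₁, op_comp, res_comp]
    refine Eq.trans (congrArg (res (PMod f M₁) k.op) ?_) (hzero k hk)
    rw [map_sum]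
    refine Finset.sum_congr rfl fun i _ => ?_
    rw [res_smul]
    exact congrArg (_ • ·) (res_pl f M₁ h _ _)
  have := Iff.mono_L_map q
  let e := ModTensor.Monoidal.counitIso.{u, u, u} O_C
  exact (MorphismProperty.monomorphisms _).arrow_mk_iso_iff
    (Arrow.isoMk (e.app _) (e.app _) (e.hom.naturality (f.pull.map φ)).symm) |>.1
    (show Mono ((ModTensor.Monoidal.L.{u, u, u} O_C).map q) from this)

end Groth.Agent.Lib.RMorLocal.FlatMor
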