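import Groth.Prelude.Def_ModSite
import Groth.Agent.Lib.FlatCrit.Iff

/-!
# Generators and relations for the inverse image of a module

Every section of `f^* M` is locally a combination of sections `ψ^* m`, and the relations between
these are locally generated by additivity, semilinearity and compatibility with restrictions.
-/

set_option linter.style.haveILetI false

universe u

open CategoryTheory Limits Opposite

namespace Groth.Agent.Lib.RMorLocal.Pull

open Groth.Agent.Lib.ModTensor.Local Groth.Agent.Lib.FlatCrit.Iff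

variable {C D : Type u} [SmallCategory C] [SmallCategory D] {J : GrothendieckTopology C}
  {K : GrothendieckTopology D} {O_C : Sheaf J CommRingCat.{u}} {O_D : Sheaf K CommRingCat.{u}}
  (f : _root_.ModSite.RMor O_C O_D) (M : _root_.ModSite.Mod O_D)

/-- The inverse image as a presheaf of modules. -/
noncomputable abbrev PMod : ModTensor.Monoidal.PM O_C :=
  (ModTensor.Monoidal.G.{u, u, u} O_C).obj (f.pull.obj M)

/-- The structure map. -/
noncomputable def shd (d : D) : O_D.obj.obj (op d) →+* O_C.obj.obj (op (f.fn.obj d)) :=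
  (f.sharp.hom.app (op d)).hom

/-- The structure map on sections. -/
noncomputable def sh {c : C} {d : D} (ψ : c ⟶ f.fn.obj d) :
    O_D.obj.obj (op d) →+* O_C.obj.obj (op c) :=
  (O_C.obj.map ψ.op).hom.comp (shd f d)

/-- The unit of the adjunction on sections. -/
noncomputable def pm (d : D) : _root_.ModSite.sect M d →+ (PMod f M).obj (op (f.fn.obj d)) :=
  (((PresheafOfModules.toPresheaf _).map (f.adj.unit.app M).val).app (op d)).hom

lemma pm_smul {d : D} (r : O_D.obj.obj (op d)) (m : _root_.ModSite.sect M d) :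
    pm f M d (r • m) = shd f d r • pm f M d m :=
  ((f.adj.unit.app M).val.app (op d)).hom.map_smul r m

lemma pm_res {d d' : D} (g : d' ⟶ d) (m : _root_.ModSite.sect M d) :
    pm f M d' (res (R := O_D.obj) M.val g.op m) =
      res (PMod f M) (f.fn.map g).op (pm f M d m) :=
  PresheafOfModules.naturality_apply (f.adj.unit.app M).val g.op m

/-- The section `ψ^* m`. -/
noncomputable def pl {c : C} {d : D} (ψ : c ⟶ f.fn.obj d) (m : _root_.ModSite.sect M d) :
    (PMod f M).obj (op c) :=
  res (PMod f M) ψ.op (pm f M d m)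

lemma pl_add {c : C} {d : D} (ψ : c ⟶ f.fn.obj d) (m m' : _root_.ModSite.sect M d) :
    pl f M ψ (m + m') = pl f M ψ m + pl f M ψ m' := by
  simp only [pl, map_add]

lemma pl_smul {c : C} {d : D} (ψ : c ⟶ f.fn.obj d) (r : O_D.obj.obj (op d))
    (m : _root_.ModSite.sect M d) : pl f M ψ (r • m) = sh f ψ r • pl f M ψ m := by
  rw [pl, pm_smul, res_smul]
  rfl

lemma pl_res {c : C} {d d' : D} (ψ : c ⟶ f.fn.obj d') (g : d' ⟶ d) (m : _root_.ModSite.sect M d) :
    pl f M ψ (res (R := O_D.obj) M.val g.op m) = pl f M (ψ ≫ f.fn.map g) m := by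
  rw [pl, pm_res, pl, op_comp, res_comp]

lemma res_pl {c c' : C} {d : D} (h : c' ⟶ c) (ψ : c ⟶ f.fn.obj d) (m : _root_.ModSite.sect M d) :
    res (PMod f M) h.op (pl f M ψ m) = pl f M (h ≫ ψ) m := by
  rw [pl, pl, op_comp, res_comp]

/-- Symbols `(ψ : c ⟶ fn d, m ∈ M d)`. -/
def Sym : Cᵒᵖ ⥤ Type u where
  obj c := Σ p : Σ d : D, (c.unop ⟶ f.fn.obj d), _root_.ModSite.sect M p.1
  map g := ↾fun x => ⟨⟨x.1.1, g.unop ≫ x.1.2⟩, x.2⟩
  map_id c := by
    ext x
    · rfl
    all_goals simp
  map_comp g h := by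
    ext x
    · rfl
    all_goals simp

/-- A symbol. -/
abbrev mkSym {c : Cᵒᵖ} {d : D} (ψ : c.unop ⟶ f.fn.obj d) (m : _root_.ModSite.sect M d) :
    (Sym f M).obj c :=
  ⟨⟨d, ψ⟩, m⟩

/-- The free presheaf on the symbols. -/
noncomputable abbrev Fr : ModTensor.Monoidal.PM O_C :=
  (FreeMod.Basic.freePre O_C).obj (Sym f M)

/-- A basis element. -/
noncomputable abbrev b {c : Cᵒᵖ} {d : D} (ψ : c.unop ⟶ f.fn.obj d)
    (m : _root_.ModSite.sect M d) : (Fr f M).obj c :=
  bas (O := O_C) (S := Sym f M) (mkSym f M ψ m)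

/-- The defining relations. -/
inductive IsRel (c : Cᵒᵖ) : (Fr f M).obj c → Prop
  | add {d : D} (ψ : c.unop ⟶ f.fn.obj d) (m m' : _root_.ModSite.sect M d) :
      IsRel c (b f M ψ (m + m') - b f M ψ m - b f M ψ m')
  | smul {d : D} (ψ : c.unop ⟶ f.fn.obj d) (r : O_D.obj.obj (op d))
      (m : _root_.ModSite.sect M d) :
      IsRel c (b f M ψ (r • m) - sh f ψ r • b f M ψ m)
  | map {d d' : D} (ψ : c.unop ⟶ f.fn.obj d') (g : d' ⟶ d) (m : _root_.ModSite.sect M d) :
      IsRel c (b f M ψ (res (R := O_D.obj) M.val g.op m) - b f M (ψ ≫ f.fn.map g) m)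

lemma res_b {c c' : Cᵒᵖ} (h : c ⟶ c') {d : D} (ψ : c.unop ⟶ f.fn.obj d)
    (m : _root_.ModSite.sect M d) :
    res (Fr f M) h (b f M ψ m) = b f M (h.unop ≫ ψ) m :=
  res_bas (S := Sym f M) h _

lemma isRel_res {c c' : Cᵒᵖ} (h : c ⟶ c') {z : (Fr f M).obj c} (hz : IsRel f M c z) :
    IsRel f M c' (res (Fr f M) h z) := by
  cases hz with
  | add ψ m m' =>
    simp only [map_sub, res_b]
    exact IsRel.add _ m m'
  | smul ψ r m =>
    simp only [map_sub, res_smul, res_b]
    have e : (O_C.obj.map h).hom (sh f ψ r) = sh f (h.unop ≫ ψ) r := by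
      simp only [sh, op_comp, Functor.map_comp]
      rfl
    rw [e]
    exact IsRel.smul _ r m
  | map ψ g m =>
    simp only [map_sub, res_b]
    rw [← Category.assoc]
    exact IsRel.map _ g m

/-- The presheaf of relations. -/
noncomputable def RelSet : Cᵒᵖ ⥤ Type u where
  obj c := {z : (Fr f M).obj c // IsRel f M c z}
  map h := ↾fun z => ⟨res (Fr f M) h z.1, isRel_res f M h z.2⟩
  map_id c := by
    ext z
    exact congrArg (fun q => q z.1) ((Fr f M).presheaf.map_id c)
  map_comp g h := by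
    ext z
    exact res_comp (Fr f M) g h z.1

/-- The relation map. -/
noncomputable def relδ : (FreeMod.Basic.freePre O_C).obj (RelSet f M) ⟶ Fr f M :=
  PresheafOfModules.freeObjDesc { app := fun c => ↾fun z => z.1 }

lemma relδ_bas {c : Cᵒᵖ} (z : (RelSet f M).obj c) : (relδ f M).app c (bas z) = z.1 :=
  ModuleCat.freeDesc_apply _ z

/-- The evaluation map. -/
noncomputable def eps : Fr f M ⟶ PMod f M :=
  PresheafOfModules.freeObjDesc
    { app := fun c => ↾fun x => pl f M (c := c.unop) x.1.2 x.2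
      naturality := fun c c' h => by
        ext x
        exact (res_pl f M h.unop x.1.2 x.2).symm }

lemma eps_b {c : Cᵒᵖ} {d : D} (ψ : c.unop ⟶ f.fn.obj d) (m : _root_.ModSite.sect M d) :
    (eps f M).app c (b f M ψ m) = pl f M ψ m :=
  ModuleCat.freeDesc_apply _ (mkSym f M ψ m)

lemma eps_rel {c : Cᵒᵖ} {z : (Fr f M).obj c} (hz : IsRel f M c z) : (eps f M).app c z = 0 := by
  cases hz with
  | add ψ m m' => simp only [map_sub, eps_b, pl_add]; abel
  | smul ψ r m =>
    rw [map_sub, map_smul, eps_b, eps_b, pl_smul, sub_self]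
  | map ψ g m => simp only [map_sub, eps_b, pl_res, sub_self]

lemma relδ_eps : relδ f M ≫ eps f M = 0 := by
  refine PresheafOfModules.hom_ext fun c => ModuleCat.hom_ext (free_ext _ _ fun z => ?_)
  exact (congrArg ((eps f M).app c) (relδ_bas f M z)).trans (eps_rel f M z.2)

/-- The presheaf quotient. -/
noncomputable abbrev Q : ModTensor.Monoidal.PM O_C := cokernel (relδ f M)

lemma π_rel {c : Cᵒᵖ} {z : (Fr f M).obj c} (hz : IsRel f M c z) :
    (cokernel.π (relδ f M)).app c z = 0 := by
  have e : z = (relδ f M).app c (bas (O := O_C) (S := RelSet f M) ⟨z, hz⟩) :=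
    (relδ_bas f M (c := c) ⟨z, hz⟩).symm
  rw [e]
  exact congrArg (fun q => q.app c (bas (O := O_C) (S := RelSet f M) ⟨z, hz⟩))
    (cokernel.condition (relδ f M))

/-- The sheafified quotient. -/
noncomputable abbrev LQ : _root_.ModSite.Mod O_C :=
  (ModTensor.Monoidal.L.{u, u, u} O_C).obj (Q f M)

/-- The canonical map from symbols to the sheafified quotient. -/
noncomputable def toLQ : Fr f M ⟶ (ModTensor.Monoidal.G.{u, u, u} O_C).obj (LQ f M) :=
  cokernel.π (relδ f M) ≫ (ModTensor.Monoidal.adj.{u, u, u} O_C).unit.app (Q f M)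

lemma toLQ_rel {c : Cᵒᵖ} {z : (Fr f M).obj c} (hz : IsRel f M c z) : (toLQ f M).app c z = 0 :=
  (congrArg (((ModTensor.Monoidal.adj.{u, u, u} O_C).unit.app (Q f M)).app c)
    (π_rel f M hz)).trans (map_zero _)

/-- `m ↦ [(𝟙, m)]`. -/
noncomputable def νPre : M.val ⟶ (f.push.obj (LQ f M)).val :=
  PresheafOfModules.homMk
    { app := fun d => AddCommGrpCat.ofHom
        (AddMonoidHom.mk' (fun m => (toLQ f M).app (op (f.fn.obj d.unop))
          (b f M (c := op (f.fn.obj d.unop)) (𝟙 _) m)) (fun m m' => by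
            have := toLQ_rel f M (IsRel.add (c := op (f.fn.obj d.unop)) (𝟙 _) m m')
            rw [map_sub, map_sub, sub_sub, sub_eq_zero] at this
            exact this))
      naturality := fun d d' g => by
        ext m
        refine ((toLQ_rel f M (IsRel.map (c := op (f.fn.obj d'.unop)) (𝟙 _) g.unop m)) |>
          fun h => (sub_eq_zero.1 ((map_sub ((toLQ f M).app _).hom _ _).symm.trans h))).trans ?_
        refine Eq.trans ?_ (res_app (R := O_C.obj) (toLQ f M) (f.fn.map g.unop).op _)
        refine congrArg ((toLQ f M).app _) ?_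
        rw [res_b]
        simp }
    (fun d r m => by
      have := toLQ_rel f M (IsRel.smul (c := op (f.fn.obj d.unop)) (𝟙 _) r m)
      rw [map_sub, sub_eq_zero, map_smul] at this
      refine this.trans ?_
      refine congrArg (fun a : O_C.obj.obj (op (f.fn.obj d.unop)) => a •
        (toLQ f M).app (op (f.fn.obj d.unop)) (b f M (c := op (f.fn.obj d.unop)) (𝟙 _) m)) ?_
      exact congrArg (fun q => q.hom (shd f d.unop r)) (O_C.obj.map_id _))

/-- `νPre` as a map of sheaves. -/
noncomputable def ν : M ⟶ f.push.obj (LQ f M) := ⟨νPre f M⟩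

/-- The comparison map. -/
noncomputable def θ : LQ f M ⟶ f.pull.obj M :=
  ((ModTensor.Monoidal.adj.{u, u, u} O_C).homEquiv _ _).symm
    (cokernel.desc (relδ f M) (eps f M) (relδ_eps f M))

lemma toLQ_θ : toLQ f M ≫ (ModTensor.Monoidal.G.{u, u, u} O_C).map (θ f M) = eps f M := by
  have h := ((ModTensor.Monoidal.adj.{u, u, u} O_C).homEquiv _ _).apply_symm_apply
    (cokernel.desc (relδ f M) (eps f M) (relδ_eps f M))
  rw [Adjunction.homEquiv_unit] at h
  rw [toLQ, Category.assoc]
  exact (congrArg (cokernel.π (relδ f M) ≫ ·) h).trans (cokernel.π_desc _ _ _)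

/-- The inverse of the comparison map. -/
noncomputable def μ : f.pull.obj M ⟶ LQ f M := (f.adj.homEquiv M _).symm (ν f M)

lemma μ_pm {d : D} (m : _root_.ModSite.sect M d) :
    ((ModTensor.Monoidal.G.{u, u, u} O_C).map (μ f M)).app (op (f.fn.obj d)) (pm f M d m) =
      (toLQ f M).app (op (f.fn.obj d)) (b f M (c := op (f.fn.obj d)) (𝟙 _) m) :=
  congrArg (fun q => q.val.app (op d) m)
    ((f.adj.homEquiv_unit M _ _).symm.trans ((f.adj.homEquiv M _).apply_symm_apply (ν f M)))

instance isIso_θ : IsIso (θ f M) := by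
  refine ⟨μ f M, ?_, ?_⟩
  · apply ((ModTensor.Monoidal.adj.{u, u, u} O_C).homEquiv _ _).injective
    rw [Adjunction.homEquiv_unit, Adjunction.homEquiv_unit, Functor.map_comp,
      CategoryTheory.Functor.map_id]
    refine (cancel_epi (cokernel.π (relδ f M))).1 ?_
    rw [← Category.assoc, ← Category.assoc, ← toLQ, toLQ_θ]
    refine PresheafOfModules.hom_ext fun c => ModuleCat.hom_ext (free_ext _ _ fun x => ?_)
    change ((ModTensor.Monoidal.G.{u, u, u} O_C).map (μ f M)).app c
        ((eps f M).app c (b f M x.1.2 x.2)) = (toLQ f M).app c (b f M x.1.2 x.2)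
    rw [eps_b, pl]
    refine (res_app (R := O_C.obj) _ x.1.2.op _).trans ?_
    rw [μ_pm]
    refine (res_app (R := O_C.obj) (toLQ f M) x.1.2.op _).symm.trans ?_
    refine congrArg ((toLQ f M).app c) ?_
    rw [res_b]
    simp
  · apply (f.adj.homEquiv M _).injective
    rw [f.adj.homEquiv_naturality_right, μ, Equiv.apply_symm_apply, f.adj.homEquiv_id]
    refine SheafOfModules.hom_ext (PresheafOfModules.hom_ext fun d =>
      ModuleCat.hom_ext (LinearMap.ext fun m => ?_))
    refine Eq.trans (?_ : _ = pl f M (𝟙 (f.fn.obj d.unop)) m) ?_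
    · refine Eq.trans ?_ (eps_b f M (c := op (f.fn.obj d.unop)) (𝟙 _) m)
      exact congrArg (fun q => q.app (op (f.fn.obj d.unop))
        (b f M (c := op (f.fn.obj d.unop)) (𝟙 _) m)) (toLQ_θ f M)
    · exact congrArg (fun q => q (pm f M d.unop m)) ((PMod f M).presheaf.map_id _)

/-- Every section of `f^* M` is locally a combination of symbols. -/
theorem exists_cover_eps {c : C} {ι : Type*} [Finite ι] (s : ι → (PMod f M).obj (op c)) :
    ∃ S ∈ J c, ∀ ⦃c' : C⦄ (g : c' ⟶ c), S g → ∃ z : ι → (Fr f M).obj (op c'),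
      ∀ i, (eps f M).app (op c') (z i) = res (PMod f M) g.op (s i) := by
  classical
  have := Fintype.ofFinite ι
  obtain ⟨-, hηs⟩ := (ModTensor.Monoidal.isIso_map_iff
    ((ModTensor.Monoidal.adj.{u, u, u} O_C).unit.app (Q f M))).1 inferInstance
  let w : ι → ((ModTensor.Monoidal.G.{u, u, u} O_C).obj (LQ f M)).obj (op c) := fun i =>
    ((ModTensor.Monoidal.G.{u, u, u} O_C).map (inv (θ f M))).app (op c) (s i)
  obtain ⟨S, hS, hlift⟩ := exists_cover_lift J (R := O_C.obj)
    ((ModTensor.Monoidal.adj.{u, u, u} O_C).unit.app (Q f M)) (X := op c) w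
  refine ⟨S, hS, fun c' g hg => ?_⟩
  obtain ⟨x, hx⟩ := hlift g hg
  have hsurj : Function.Surjective ((cokernel.π (relδ f M)).app (op c')) :=
    (PresheafOfModules.epi_iff_surjective (cokernel.π (relδ f M))).1 inferInstance (X := op c')
  choose z hz using fun i => hsurj (x i)
  refine ⟨z, fun i => ?_⟩
  have e₁ : (toLQ f M).app (op c') (z i) =
      res ((ModTensor.Monoidal.G.{u, u, u} O_C).obj (LQ f M)) g.op (w i) :=
    (congrArg _ (hz i)).trans (hx i)
  refine (congrArg (fun q => q.app (op c') (z i)) (toLQ_θ f M)).symm.trans ?_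
  refine (congrArg (((ModTensor.Monoidal.G.{u, u, u} O_C).map (θ f M)).app (op c')).hom e₁).trans ?_
  refine (res_app (R := O_C.obj) _ g.op (w i)).trans (congrArg _ ?_)
  exact congrArg (fun q => q.val.app (op c) (s i)) (IsIso.inv_hom_id (θ f M))

/-- Relations between symbols are locally combinations of the defining ones. -/
theorem exists_cover_span {c : C} {z : (Fr f M).obj (op c)} (hz : (eps f M).app (op c) z = 0) :
    ∃ S ∈ J c, ∀ ⦃c' : C⦄ (g : c' ⟶ c), S g →
      res (Fr f M) g.op z ∈ Submodule.span (O_C.obj.obj (op c'))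
        {y | IsRel f M (op c') y} := by
  obtain ⟨hηi, -⟩ := (ModTensor.Monoidal.isIso_map_iff
    ((ModTensor.Monoidal.adj.{u, u, u} O_C).unit.app (Q f M))).1 inferInstance
  have h₀ : (toLQ f M).app (op c) z = 0 := by
    have e : ((ModTensor.Monoidal.G.{u, u, u} O_C).map (θ f M)).app (op c)
        ((toLQ f M).app (op c) z) = 0 :=
      (congrArg (fun q => q.app (op c) z) (toLQ_θ f M)).trans hz
    refine (congrArg (fun q => q.val.app (op c) ((toLQ f M).app (op c) z))
      (IsIso.hom_inv_id (θ f M))).symm.trans ?_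
    exact (congrArg ((inv (θ f M)).val.app (op c)).hom e).trans (LinearMap.map_zero _)
  obtain ⟨S, hS, hzero⟩ := exists_cover_zero J (R := O_C.obj)
    ((ModTensor.Monoidal.adj.{u, u, u} O_C).unit.app (Q f M)) (X := op c) (ι := Unit)
    (fun _ => (cokernel.π (relδ f M)).app (op c) z) (fun _ => h₀)
  refine ⟨S, hS, fun c' g hg => ?_⟩
  have hπ : (cokernel.π (relδ f M)).app (op c') (res (Fr f M) g.op z) = 0 :=
    (res_app (R := O_C.obj) _ g.op z).trans (hzero g hg ())
  let T := ShortComplex.mk (relδ f M) (cokernel.π (relδ f M)) (cokernel.condition _)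
  let E : ModTensor.Monoidal.PM O_C ⥤ AddCommGrpCat.{u} := PresheafOfModules.toPresheaf (O_C.obj ⋙ forget₂ CommRingCat.{u} RingCat.{u}) ⋙
    (evaluation _ _).obj (op c')
  haveI : E.Additive := ⟨fun {_ _ _ _} => rfl⟩
  haveI : PreservesColimitsOfShape WalkingParallelPair E := inferInstance
  have hT : (T.map E).Exact :=
    (T.exact_of_g_is_cokernel (cokernelIsCokernel (relδ f M))).map_of_epi_of_preservesCokernel E
      inferInstance inferInstance
  obtain ⟨w, hw⟩ := (ShortComplex.ab_exact_iff _).1 hT _ hπ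
  rw [← hw]
  let Sp := Submodule.span (O_C.obj.obj (op c')) {y | IsRel f M (op c') y}
  have h₁ : Sp.mkQ.comp ((relδ f M).app (op c')).hom = 0 := free_ext _ _ fun y => by
    refine (congrArg Sp.mkQ (relδ_bas f M y)).trans ?_
    exact (Submodule.Quotient.mk_eq_zero _).2 (Submodule.subset_span y.2)
  exact (Submodule.Quotient.mk_eq_zero _).1 (congrArg (fun l => l w) h₁)

end Groth.Agent.Lib.RMorLocal.Pull
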