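import Groth.Agent.Lib.RMorLocal.Kill
import Groth.Agent.Lib.FlatCrit.Iff

/-!
# The inverse image of a flat module is flat
-/

set_option linter.style.haveILetI false

universe u

open CategoryTheory Limits Opposite TensorProduct

namespace Groth.Agent.Lib.RMorLocal.Flat

open Groth.Agent.Lib.ModTensor.Local Groth.Agent.Lib.RMorLocal.Pull
  Groth.Agent.Lib.RMorLocal.Kill Groth.Agent.Lib.FlatCrit

variable {C D : Type u} [SmallCategory C] [SmallCategory D] {J : GrothendieckTopology C}
  {K : GrothendieckTopology D} {O_C : Sheaf J CommRingCat.{u}} {O_D : Sheaf K CommRingCat.{u}}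
  {f : _root_.ModSite.RMor O_C O_D} {M : _root_.ModSite.Mod O_D}

/-- Finitely many combinations of symbols use finitely many symbols. -/
lemma exists_common_support {c : Cᵒᵖ} {n : ℕ} (z : Fin n → (Fr f M).obj c) :
    ∃ (N : ℕ) (x : Fin N → (Sym f M).obj c) (α : Fin n → Fin N → O_C.obj.obj c),
      ∀ j, z j = ∑ i, α j i • Iff.bas (O := O_C) (x i) := by
  classical
  let X : Finset ((Sym f M).obj c) :=
    Finset.univ.biUnion fun j => (show (Sym f M).obj c →₀ O_C.obj.obj c from z j).support
  let e := X.equivFin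
  refine ⟨X.card, fun i => (e.symm i).1,
    fun j i => DFunLike.coe (F := (Sym f M).obj c →₀ O_C.obj.obj c) (z j) (e.symm i).1, fun j => ?_⟩
  have hb : ∀ (s : (Sym f M).obj c) (r : O_C.obj.obj c),
      (r • Iff.bas (O := O_C) s : (Fr f M).obj c) =
        (Finsupp.single s r : (Sym f M).obj c →₀ O_C.obj.obj c) := fun s r =>
    (Finsupp.smul_single r _ (1 : O_C.obj.obj c)).trans
      (congrArg (Finsupp.single _) (mul_one r))
  simp only [hb]
  have key : ∑ s ∈ X, Finsupp.single s
      (DFunLike.coe (F := (Sym f M).obj c →₀ O_C.obj.obj c) (z j) s) = z j := by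
    refine Eq.trans ?_ (Finsupp.sum_single (show (Sym f M).obj c →₀ O_C.obj.obj c from z j))
    refine (Finset.sum_subset (fun s hs => ?_) (fun s _ hs => ?_)).symm
    · exact Finset.mem_biUnion.2 ⟨j, Finset.mem_univ _, hs⟩
    · rw [Finsupp.notMem_support_iff.1 hs, Finsupp.single_zero]
  refine key.symm.trans ?_
  rw [← Finset.sum_coe_sort]
  exact (e.symm.sum_comp fun s : X => (Finsupp.single s.1
    (DFunLike.coe (F := (Sym f M).obj c →₀ O_C.obj.obj c) (z j) s.1) :
      (Sym f M).obj c →₀ O_C.obj.obj c)).symm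

/-- The criterion for a relation between combinations of symbols killed on all cones. -/
theorem triv_of_killed (hM : _root_.ModSite.IsFlat M) {c : C} {n N : ℕ}
    (f' : Fin n → O_C.obj.obj (op c)) (s : Fin n → (PMod f M).obj (op c))
    (x : Fin N → (Sym f M).obj (op c)) (α : Fin n → Fin N → O_C.obj.obj (op c))
    (hs : ∀ j, s j = ∑ i, α j i • pl f M (x i).1.2 (x i).2)
    (hz : Killed (∑ i, (∑ j, f' j * α j i) • Iff.bas (O := O_C) (x i) : (Fr f M).obj (op c))) :
    Rel.trivSieve (R := O_C.obj) (PMod f M) (fun _ : Fin 1 => f') s ∈ J c := by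
  classical
  obtain ⟨P₀, E, hkill⟩ := hz
  let P : Finset (Cone.Pr f.fn c) := P₀ ∪ Finset.univ.image (fun i => (x i).1)
  rcases Nat.eq_zero_or_pos N with rfl | hN
  · refine J.superset_covering (fun Y g _ => ?_) (J.top_mem c)
    refine ⟨0, Fin.elim0, fun _ => Fin.elim0, fun j => ?_, fun _ m => m.elim0⟩
    simp [hs]
  have hP : P.Nonempty :=
    ⟨(x ⟨0, hN⟩).1, Finset.mem_union_right _ (Finset.mem_image_of_mem _ (Finset.mem_univ _))⟩
  refine J.transitive (Cone.coneSieve_mem K f.fn P hP E) _ (fun c' g hg => ?_)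
  obtain ⟨X⟩ := hg
  have hx : ∀ i, (x i).1 ∈ P := fun i =>
    Finset.mem_union_right _ (Finset.mem_image_of_mem _ (Finset.mem_univ _))
  let m : Fin N → _root_.ModSite.sect M X.d := fun i =>
    res (R := O_D.obj) M.val (X.π _ (hx i)).op (x i).2
  let β : Fin N → O_C.obj.obj (op c') := fun i =>
    (O_C.obj.map g.op).hom (∑ j, f' j * α j i)
  have hsum : ∑ i, m i ⊗ₜ[O_D.obj.obj (op X.d)] toOb f X.ψ (β i) = 0 := by
    refine Eq.trans ?_ (hkill P Finset.subset_union_left E (Finset.Subset.refl _) g X)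
    refine Eq.trans ?_ (map_sum (phi X) _ _).symm
    exact Finset.sum_congr rfl fun i _ => (phi_smul_b X (x i).1.2 (hx i) (x i).2 _).symm
  obtain ⟨L, cc, k, A, y, hy, hA⟩ := exists_vanishesTrivially_sumElim (R := O_D.obj.obj (op X.d))
    m (fun i => toOb f X.ψ (β i)) hsum
  have hcrit := Iff.crit_of_isFlat hM
  have hT := Rel.trivSieve_mem (R := O_D.obj) (U := X.d) hcrit (fun j i => A i j) (Sum.elim m cc) hA
  obtain ⟨S, hS, hlift⟩ := Basic.exists_cover_lift (J := J) K f.fn X.ψ hT
  refine J.superset_covering (fun c'' h hh => ?_) hS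
  obtain ⟨d', a, ψ', ⟨l, t, u, htu, hAu⟩, hψ⟩ := hlift h hh
  refine ⟨l, fun q => pl f M ψ' (t q),
    fun j q => ∑ i, (O_C.obj.map (h ≫ g).op).hom (α j i) * sh f ψ' (u (Sum.inl i) q),
    fun j => ?_, fun _ q => ?_⟩
  · have hpl : ∀ i, res (PMod f M) (h ≫ g).op (pl f M (x i).1.2 (x i).2) =
        ∑ q, sh f ψ' (u (Sum.inl i) q) • pl f M ψ' (t q) := fun i => by
      refine (res_pl f M (h ≫ g) _ _).trans ?_
      have e : (h ≫ g) ≫ (x i).1.2 = ψ' ≫ f.fn.map (a ≫ X.π _ (hx i)) := by
        rw [Functor.map_comp, ← Category.assoc, hψ, Category.assoc, Category.assoc,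
          X.hπ _ (hx i)]
      rw [e, ← pl_res, op_comp, res_comp]
      refine (congrArg (pl f M ψ') (htu (Sum.inl i))).trans ?_
      refine (map_sum (AddMonoidHom.mk' (pl f M ψ') (pl_add f M ψ')) _ _).trans ?_
      exact Finset.sum_congr rfl fun q _ => pl_smul f M ψ' _ _
    rw [hs, map_sum]
    simp only [res_smul, hpl, Finset.smul_sum, smul_smul]
    rw [Finset.sum_comm]
    simp only [Finset.sum_smul]
  · let β' : Fin N ⊕ Fin L → O_C.obj.obj (op c') := Sum.elim β (fun _ => 0)
    have hy' : ∀ i, β' i = ∑ j, sh f X.ψ (A i j) * (show O_C.obj.obj (op c') from y j) := fun i => by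
      refine Eq.trans ?_ (hy i)
      cases i <;> rfl
    have h₁ : ∑ i, (O_C.obj.map h.op).hom (β' i) * sh f ψ' (u i q) = 0 := by
      simp only [hy', map_sum, map_mul, sh_res, ← hψ, sh_map, Finset.sum_mul]
      rw [Finset.sum_comm]
      refine Finset.sum_eq_zero fun j _ => ?_
      have h₂ := congrArg (sh f ψ') (hAu j q)
      simp only [map_sum, map_mul, map_zero] at h₂
      have h₃ : ∀ i, sh f ψ' ((O_D.obj.map a.op).hom (A i j)) *
            (O_C.obj.map h.op).hom (show O_C.obj.obj (op c') from y j) * sh f ψ' (u i q) =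
          (O_C.obj.map h.op).hom (show O_C.obj.obj (op c') from y j) *
            (sh f ψ' (u i q) * sh f ψ' ((O_D.obj.map a.op).hom (A i j))) := fun i => by ring
      simp only [h₃, ← Finset.mul_sum, h₂, mul_zero]
    rw [Fintype.sum_sum_type] at h₁
    simp only [β', β, Sum.elim_inl, Sum.elim_inr, map_zero, zero_mul, Finset.sum_const_zero,
      add_zero] at h₁
    refine Eq.trans ?_ h₁
    simp only [op_comp, Rel.map_comp_apply, map_sum, map_mul, Finset.sum_mul]
    rw [Finset.sum_comm]
    exact Finset.sum_congr rfl fun i _ => Finset.sum_congr rfl fun j _ => by ring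

/-- The inverse image of a flat module is flat. -/
theorem isFlat_pull (f : _root_.ModSite.RMor O_C O_D) (M : _root_.ModSite.Mod O_D)
    (hM : _root_.ModSite.IsFlat M) : _root_.ModSite.IsFlat (f.pull.obj M) := by
  classical
  refine Iff.isFlat_of_crit ?_
  intro c n f' s hrel
  suffices H : Rel.trivSieve (R := O_C.obj) (PMod f M) (fun _ : Fin 1 => f') s ∈ J c by
    refine ⟨_, H, fun c' g hg => ?_⟩
    obtain ⟨l, t, a, hs, ha⟩ := hg
    exact ⟨l, t, a, hs, fun k => ha 0 k⟩
  obtain ⟨S, hS, hlift⟩ := exists_cover_eps f M s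
  refine J.transitive hS _ (fun c' g hg => ?_)
  obtain ⟨z, hz⟩ := hlift g hg
  have hw : (eps f M).app (op c') (∑ j, (O_C.obj.map g.op).hom (f' j) • z j) = 0 := by
    refine (map_sum ((eps f M).app (op c')).hom _ _).trans ?_
    have h₀ := congrArg (res (PMod f M) g.op) hrel
    rw [map_sum, map_zero] at h₀
    refine Eq.trans (Finset.sum_congr rfl fun j _ => ?_) h₀
    refine (((eps f M).app (op c')).hom.map_smul _ _).trans ?_
    rw [res_smul]
    exact congrArg (_ • ·) (hz j)
  obtain ⟨T, hT, hspan⟩ := exists_cover_span f M hw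
  refine J.transitive hT _ (fun c'' h hh => ?_)
  obtain ⟨N, x, α, hα⟩ := exists_common_support (fun j => res (Fr f M) h.op (z j))
  let F : Fin n → O_C.obj.obj (op c'') := fun j => (O_C.obj.map (h ≫ g).op).hom (f' j)
  let σ : Fin n → (PMod f M).obj (op c'') := fun j => res (PMod f M) (h ≫ g).op (s j)
  have hσ : ∀ j, σ j = ∑ i, α j i • pl f M (x i).1.2 (x i).2 := fun j => by
    have e : (eps f M).app (op c'') (res (Fr f M) h.op (z j)) = σ j := by
      refine (res_app (R := O_C.obj) (eps f M) h.op (z j)).trans ?_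
      rw [hz, ← res_comp, ← op_comp]
    rw [← e, hα, map_sum]
    exact Finset.sum_congr rfl fun i _ =>
      (((eps f M).app (op c'')).hom.map_smul _ _).trans (congrArg (_ • ·) (eps_b f M _ _))
  have hk : Killed (∑ i, (∑ j, F j * α j i) • Iff.bas (O := O_C) (x i) :
      (Fr f M).obj (op c'')) := by
    have e : res (Fr f M) h.op (∑ j, (O_C.obj.map g.op).hom (f' j) • z j) =
        ∑ i, (∑ j, F j * α j i) • Iff.bas (O := O_C) (x i) := by
      simp only [map_sum, res_smul, hα, Finset.smul_sum, smul_smul, Finset.sum_smul, F, op_comp,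
        Rel.map_comp_apply]
      exact Finset.sum_comm
    exact killed_of_mem_span (e ▸ hspan h hh)
  refine J.superset_covering (fun Z k hk' => ?_) (triv_of_killed hM F σ x α hσ hk)
  obtain ⟨l, t, a, hs, ha⟩ := hk'
  refine ⟨l, t, a, fun j => ?_, fun i q => ?_⟩
  · refine Eq.trans ?_ (hs j)
    simp only [σ, op_comp, res_comp]
  · refine Eq.trans ?_ (ha i q)
    simp only [F, op_comp, Rel.map_comp_apply]

end Groth.Agent.Lib.RMorLocal.Flat
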