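import Groth.Agent.Lib.RMorLocal.Mono

/-!
# The inverse image of the structure sheaf
-/

set_option linter.style.haveILetI false

universe u

open CategoryTheory Limits Opposite

namespace Groth.Agent.Lib.RMorLocal.Basic

variable {C D : Type u} [SmallCategory C] [SmallCategory D] {J : GrothendieckTopology C}
  (K : GrothendieckTopology D) (fn : D ⥤ C) [fn.IsContinuous K J]
  [PreservesFiniteLimits (fn.sheafPullback (Type u) K J)]

include K in
/-- Every object is locally under some `fn d`. -/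
theorem exists_cover_obj (c : C) :
    ∃ S ∈ J c, ∀ ⦃c' : C⦄ (g : c' ⟶ c), S g → ∃ d : D, Nonempty (c' ⟶ fn.obj d) := by
  haveI : PreservesFiniteLimits (Ev J K fn c) := comp_preservesFiniteLimits _ _
  let P : Dᵒᵖ ⥤ Type u := ⊤_ (Dᵒᵖ ⥤ Type u)
  let w : (Ev J K fn c).obj P :=
    (PreservesTerminal.iso (Ev J K fn c)).inv (Types.terminalIso.inv PUnit.unit)
  obtain ⟨S, hS, hgen⟩ := exists_cover_ev fn w
  exact ⟨S, hS, fun c' g hg => ⟨(hgen g hg).choose, ⟨(hgen g hg).choose_spec.choose⟩⟩⟩

end Groth.Agent.Lib.RMorLocal.Basic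

namespace Groth.Agent.Lib.RMorLocal.Unit

open Groth.Agent.Lib.ModTensor.Local Groth.Agent.Lib.RMorLocal.Pull Groth.Agent.Lib.RMorLocal.Kill

variable {C D : Type u} [SmallCategory C] [SmallCategory D] {J : GrothendieckTopology C}
  {K : GrothendieckTopology D} {O_C : Sheaf J CommRingCat.{u}} {O_D : Sheaf K CommRingCat.{u}}
  (f : _root_.ModSite.RMor O_C O_D)

/-- The structure map as a map of modules. -/
noncomputable def sharpPre :
    (_root_.ModSite.unit O_D).val ⟶ (f.push.obj (_root_.ModSite.unit O_C)).val :=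
  PresheafOfModules.homMk
    { app := fun d => AddCommGrpCat.ofHom (f.sharp.hom.app d).hom.toAddMonoidHom
      naturality := fun d d' g => by
        ext r
        exact congrArg (fun q => q.hom r) (f.sharp.hom.naturality g) }
    (fun d r m => (f.sharp.hom.app d).hom.map_mul r m)

/-- The comparison `f^* O_D ⟶ O_C`. -/
noncomputable def unitHom : f.pull.obj (_root_.ModSite.unit O_D) ⟶ _root_.ModSite.unit O_C :=
  (f.adj.homEquiv _ _).symm ⟨sharpPre f⟩

/-- `unitHom` on presheaves. -/
noncomputable abbrev unitHomP :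
    PMod f (_root_.ModSite.unit O_D) ⟶
      (ModTensor.Monoidal.G.{u, u, u} O_C).obj (_root_.ModSite.unit O_C) :=
  (ModTensor.Monoidal.G.{u, u, u} O_C).map (unitHom f)

lemma unitHom_pl {c : C} {d : D} (ψ : c ⟶ f.fn.obj d)
    (a : _root_.ModSite.sect (_root_.ModSite.unit O_D) d) :
    (unitHomP f).app (op c) (pl f _ ψ a) = sh f ψ a := by
  refine (res_app (R := O_C.obj) (unitHomP f) ψ.op _).trans ?_
  exact congrArg (fun b => res (R := O_C.obj)
      ((ModTensor.Monoidal.G.{u, u, u} O_C).obj (_root_.ModSite.unit O_C)) ψ.op b)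
    (congrArg (fun q => q.val.app (op d) a)
      ((f.adj.homEquiv_unit _ _ _).symm.trans ((f.adj.homEquiv _ _).apply_symm_apply ⟨sharpPre f⟩)))

lemma pl_eq_smul_one {c : C} {d : D} (ψ : c ⟶ f.fn.obj d) (a : O_D.obj.obj (op d)) :
    pl f (_root_.ModSite.unit O_D) ψ a =
      sh f ψ a • pl f (_root_.ModSite.unit O_D) ψ (1 : O_D.obj.obj (op d)) := by
  rw [← pl_smul]
  exact congrArg (pl f (_root_.ModSite.unit O_D) ψ) (mul_one a).symm

instance isLocallySurjective_unitHomP :
    PresheafOfModules.IsLocallySurjective J (unitHomP f) := by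
  refine ⟨fun {c} r => ?_⟩
  obtain ⟨S, hS, H⟩ := Basic.exists_cover_obj (J := J) K f.fn c
  refine J.superset_covering (fun c' g hg => ?_) hS
  obtain ⟨d, ⟨ψ⟩⟩ := H g hg
  refine ⟨(O_C.obj.map g.op).hom r •
    pl f (_root_.ModSite.unit O_D) ψ (1 : O_D.obj.obj (op d)), ?_⟩
  refine (((unitHomP f).app (op c')).hom.map_smul _ _).trans ?_
  refine (congrArg ((O_C.obj.map g.op).hom r • ·)
    ((unitHom_pl f ψ _).trans (map_one (sh f ψ)))).trans ?_
  exact mul_one (M := O_C.obj.obj (op c')) _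

instance isLocallyInjective_unitHomP :
    PresheafOfModules.IsLocallyInjective J (unitHomP f) := by
  classical
  refine ⟨fun {U} z z' hzz => ?_⟩
  suffices H : ∀ w : (PMod f (_root_.ModSite.unit O_D)).obj U, (unitHomP f).app U w = 0 →
      ∃ T ∈ J U.unop, ∀ ⦃Y : C⦄ (g : Y ⟶ U.unop), T g → res (PMod f _) g.op w = 0 by
    obtain ⟨T, hT, h0⟩ := H
      (show (PMod f (_root_.ModSite.unit O_D)).obj U from (z : (PMod f _).obj U) - z')
      ((map_sub ((unitHomP f).app U).hom _ _).trans (sub_eq_zero.2 hzz))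
    refine J.superset_covering (fun Y g hg => ?_) hT
    exact sub_eq_zero.1 ((map_sub (res (PMod f (_root_.ModSite.unit O_D)) g.op) _ _).symm.trans
      (h0 g hg))
  intro w hw
  let Good : Sieve U.unop :=
    Presheaf.equalizerSieve (F := (PMod f (_root_.ModSite.unit O_D)).presheaf) w
      (0 : (PMod f (_root_.ModSite.unit O_D)).obj U)
  refine ⟨Good, ?_, fun Y g hg =>
    (show res (PMod f (_root_.ModSite.unit O_D)) g.op _ = res (PMod f _) g.op 0 from hg).trans
      (map_zero _)⟩
  obtain ⟨S, hS, hlift⟩ := exists_cover_eps f (_root_.ModSite.unit O_D) (c := U.unop)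
    (fun _ : Fin 1 => w)
  refine J.transitive hS _ (fun c g hg => ?_)
  obtain ⟨z, hz⟩ := hlift g hg
  obtain ⟨N, x, α, hα⟩ := Flat.exists_common_support z
  have hw₁ : res (PMod f (_root_.ModSite.unit O_D)) g.op w =
      ∑ i, α 0 i • pl f (_root_.ModSite.unit O_D) (x i).1.2 (x i).2 := by
    refine (hz 0).symm.trans ((congrArg _ (hα 0)).trans ?_)
    rw [map_sum]
    exact Finset.sum_congr rfl fun i _ =>
      (((eps f _).app (op c)).hom.map_smul _ _).trans (congrArg (_ • ·) (eps_b f _ _ _))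
  rcases Nat.eq_zero_or_pos N with rfl | hN
  · refine J.superset_covering (fun Y h _ => ?_) (J.top_mem c)
    change res (PMod f _) (h ≫ g).op w = res (PMod f _) (h ≫ g).op 0
    rw [map_zero, op_comp, res_comp, hw₁, Finset.univ_eq_empty, Finset.sum_empty, map_zero]
  let P : Finset (Cone.Pr f.fn c) := Finset.univ.image (fun i => (x i).1)
  have hP : P.Nonempty := ⟨(x ⟨0, hN⟩).1, Finset.mem_image_of_mem _ (Finset.mem_univ _)⟩
  refine J.superset_covering (fun Y h hh => ?_) (Cone.coneSieve_mem (J := J) K f.fn P hP ∅)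
  obtain ⟨X⟩ := hh
  have hx : ∀ i, (x i).1 ∈ P := fun i => Finset.mem_image_of_mem _ (Finset.mem_univ _)
  let β : Fin N → O_C.obj.obj (op Y) := fun i =>
    (O_C.obj.map h.op).hom (α 0 i) * sh f (h ≫ (x i).1.2) (x i).2
  have hpl : ∀ i, res (PMod f (_root_.ModSite.unit O_D)) h.op
      (α 0 i • pl f (_root_.ModSite.unit O_D) (x i).1.2 (x i).2) =
        β i • pl f (_root_.ModSite.unit O_D) X.ψ (1 : O_D.obj.obj (op X.d)) := fun i => by
    simp only [β]
    rw [res_smul, mul_smul]
    refine congrArg (_ • ·) ((res_pl f _ h _ _).trans ?_)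
    rw [← X.hπ _ (hx i), ← pl_res, sh_map]
    exact pl_eq_smul_one f X.ψ _
  have hβ : ∑ i, β i = 0 := by
    have h₀ : (unitHomP f).app (op Y) (res (PMod f _) (h ≫ g).op w) = 0 :=
      (res_app (R := O_C.obj) _ (h ≫ g).op w).trans ((congrArg _ hw).trans (map_zero _))
    rw [op_comp, res_comp, hw₁, map_sum, map_sum] at h₀
    refine Eq.trans (Finset.sum_congr rfl fun i _ => ?_) h₀
    rw [res_smul]
    refine Eq.trans ?_ (((unitHomP f).app (op Y)).hom.map_smul _ _).symm
    exact congrArg ((O_C.obj.map h.op).hom (α 0 i) * ·)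
      ((congrArg _ (res_pl f _ h _ _)).trans (unitHom_pl f _ _)).symm
  change res (PMod f _) (h ≫ g).op w = res (PMod f _) (h ≫ g).op 0
  rw [map_zero, op_comp, res_comp, hw₁, map_sum]
  refine (Finset.sum_congr rfl fun i _ => hpl i).trans ?_
  rw [← Finset.sum_smul, hβ, zero_smul]

/-- `f^* O_D ≅ O_C`. -/
noncomputable def pullUnitIso : f.pull.obj (_root_.ModSite.unit O_D) ≅ _root_.ModSite.unit O_C :=
  haveI : IsIso ((ModTensor.Monoidal.L.{u, u, u} O_C).map (unitHomP f)) :=
    (ModTensor.Monoidal.isIso_map_iff.{u, u, u} (unitHomP f)).2 ⟨inferInstance, inferInstance⟩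
  haveI : IsIso (unitHom f) := by
    let e := ModTensor.Monoidal.counitIso.{u, u, u} O_C
    exact (MorphismProperty.isomorphisms _).arrow_mk_iso_iff
      (Arrow.isoMk (e.app _) (e.app _) (e.hom.naturality (unitHom f)).symm) |>.1
      (show IsIso ((ModTensor.Monoidal.L.{u, u, u} O_C).map (unitHomP f)) from inferInstance)
  asIso (unitHom f)

end Groth.Agent.Lib.RMorLocal.Unit
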