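import Groth.Agent.Lib.RMorLocal.Flat

/-!
# Inverse images of short exact sequences with flat cokernel
-/

set_option linter.style.haveILetI false

universe u

open CategoryTheory Limits Opposite TensorProduct

namespace Groth.Agent.Lib.RMorLocal.Mono

open Groth.Agent.Lib.ModTensor.Local Groth.Agent.Lib.RMorLocal.Pull
  Groth.Agent.Lib.RMorLocal.Kill Groth.Agent.Lib.FlatCrit

variable {C D : Type u} [SmallCategory C] [SmallCategory D] {J : GrothendieckTopology C}
  {K : GrothendieckTopology D} {O_C : Sheaf J CommRingCat.{u}} {O_D : Sheaf K CommRingCat.{u}}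
  {f : _root_.ModSite.RMor O_C O_D}

lemma map_pl {M N : _root_.ModSite.Mod O_D} (q : M ⟶ N) {c : C} {d : D} (ψ : c ⟶ f.fn.obj d)
    (m : _root_.ModSite.sect M d) :
    ((ModTensor.Monoidal.G.{u, u, u} O_C).map (f.pull.map q)).app (op c) (pl f M ψ m) =
      pl f N ψ (q.val.app (op d) m) := by
  refine (res_app (R := O_C.obj) _ ψ.op _).trans (congrArg (res (PMod f N) ψ.op) ?_)
  exact (congrArg (fun r => r.val.app (op d) m) (f.adj.unit.naturality q)).symm

variable (S : ShortComplex (_root_.ModSite.Mod O_D)) (hS : S.ShortExact)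
  (hH : _root_.ModSite.IsFlat S.X₃)

include hS hH in
/-- Sections which vanish in the middle vanish locally. -/
theorem zero_of_killed {c : C} {N : ℕ} (x : Fin N → (Sym f S.X₁).obj (op c))
    (α : Fin N → O_C.obj.obj (op c))
    (hz : Killed (∑ i, α i • b f S.X₂ (c := op c) (x i).1.2 (S.f.val.app (op (x i).1.1) (x i).2))) :
    ∃ T ∈ J c, ∀ ⦃c' : C⦄ (g : c' ⟶ c), T g →
      res (PMod f S.X₁) g.op (∑ i, α i • pl f S.X₁ (x i).1.2 (x i).2) = 0 := by
  classical
  let Good : Sieve c :=
    Presheaf.equalizerSieve (F := (PMod f S.X₁).presheaf) (X := op c)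
      (∑ i, α i • pl f S.X₁ (x i).1.2 (x i).2) (0 : (PMod f S.X₁).obj (op c))
  suffices hGood : Good ∈ J c from
    ⟨Good, hGood, fun c' g hg => (show res (PMod f S.X₁) g.op _ = res (PMod f S.X₁) g.op 0 from
      hg).trans (map_zero _)⟩
  rcases Nat.eq_zero_or_pos N with rfl | hN
  · refine J.superset_covering (fun Y g _ => ?_) (J.top_mem c)
    change res (PMod f S.X₁) g.op _ = res (PMod f S.X₁) g.op 0
    rw [Finset.univ_eq_empty, Finset.sum_empty]
    rfl
  obtain ⟨P₀, E, hkill⟩ := hz
  let P : Finset (Cone.Pr f.fn c) := P₀ ∪ Finset.univ.image (fun i => (x i).1)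
  have hP : P.Nonempty :=
    ⟨(x ⟨0, hN⟩).1, Finset.mem_union_right _ (Finset.mem_image_of_mem _ (Finset.mem_univ _))⟩
  refine J.transitive (Cone.coneSieve_mem K f.fn P hP E) _ (fun c' g hg => ?_)
  obtain ⟨X⟩ := hg
  have hx : ∀ i, (x i).1 ∈ P := fun i =>
    Finset.mem_union_right _ (Finset.mem_image_of_mem _ (Finset.mem_univ _))
  let m : Fin N → _root_.ModSite.sect S.X₁ X.d := fun i =>
    res (R := O_D.obj) S.X₁.val (X.π _ (hx i)).op (x i).2
  let fm : Fin N → _root_.ModSite.sect S.X₂ X.d := fun i => S.f.val.app (op X.d) (m i)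
  let β : Fin N → O_C.obj.obj (op c') := fun i => (O_C.obj.map g.op).hom (α i)
  have hsum : ∑ i, fm i ⊗ₜ[O_D.obj.obj (op X.d)] toOb f X.ψ (β i) = 0 := by
    refine Eq.trans ?_ (hkill P Finset.subset_union_left E (Finset.Subset.refl _) g X)
    refine Eq.trans ?_ (map_sum (phi X) _ _).symm
    refine Finset.sum_congr rfl fun i _ => ?_
    refine Eq.trans ?_ (phi_smul_b X (x i).1.2 (hx i) _ _).symm
    exact congrArg (· ⊗ₜ[O_D.obj.obj (op X.d)] toOb f X.ψ (β i))
      (res_app (R := O_D.obj) S.f.val _ _)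
  obtain ⟨L, cc, k, A, y, hy, hA⟩ := exists_vanishesTrivially_sumElim (R := O_D.obj.obj (op X.d))
    fm (fun i => toOb f X.ψ (β i)) hsum
  have hgf : ∀ (d : D) (v : _root_.ModSite.sect S.X₁ d),
      S.g.val.app (op d) (S.f.val.app (op d) v) = 0 := fun d v =>
    congrArg (fun q => q.val.app (op d) v) S.zero
  -- the images of the extra sections in the cokernel satisfy the relations
  have hrel : ∀ j, ∑ i, A (Sum.inr i) j •
      (S.g.val.app (op X.d) (cc i) : _root_.ModSite.sect S.X₃ X.d) = 0 := fun j => by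
    have h₀ := congrArg (S.g.val.app (op X.d)).hom (hA j)
    rw [map_sum, map_zero, Fintype.sum_sum_type] at h₀
    simp only [Sum.elim_inl, Sum.elim_inr, map_smul] at h₀
    refine Eq.trans ?_ h₀
    have h₁ : ∑ i, A (Sum.inl i) j • (S.g.val.app (op X.d)).hom (fm i) = 0 :=
      Finset.sum_eq_zero fun i _ => (congrArg (A (Sum.inl i) j • ·) (hgf _ _)).trans (smul_zero _)
    rw [h₁, zero_add]
  have hT := Rel.trivSieve_mem (R := O_D.obj) (U := X.d) (Iff.crit_of_isFlat hH)
    (fun j i => A (Sum.inr i) j) (fun i => S.g.val.app (op X.d) (cc i)) hrel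
  -- lift the new sections locally
  let T₂ : Sieve X.d :=
    { arrows := fun d' a => ∃ (l : ℕ) (t : Fin l → _root_.ModSite.sect S.X₂ d')
        (u : Fin L → Fin l → O_D.obj.obj (op d')) (e : Fin L → _root_.ModSite.sect S.X₁ d'),
        (∀ i, res (R := O_D.obj) S.X₂.val a.op (cc i) = S.f.val.app (op d') (e i) + ∑ q, u i q • t q) ∧
          ∀ j q, ∑ i, u i q * (O_D.obj.map a.op).hom (A (Sum.inr i) j) = 0
      downward_closed := by
        rintro Y Z a ⟨l, t, u, e, he, hu⟩ h
        refine ⟨l, fun q => res (R := O_D.obj) S.X₂.val h.op (t q),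
          fun i q => (O_D.obj.map h.op).hom (u i q),
          fun i => res (R := O_D.obj) S.X₁.val h.op (e i), fun i => ?_, fun j q => ?_⟩
        · rw [op_comp, res_comp, he, map_add, map_sum]
          simp only [res_smul]
          exact congrArg (· + _) (res_app (R := O_D.obj) S.f.val h.op (e i)).symm
        · simp only [op_comp, Rel.map_comp_apply, ← map_mul, ← map_sum, hu j q, map_zero] }
  have hT₂ : T₂ ∈ K X.d := by
    refine K.transitive hT _ (fun d₁ a ha => ?_)
    obtain ⟨l, t, u, htu, hu⟩ := ha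
    haveI : Epi S.g := hS.epi_g
    haveI : Mono S.f := hS.mono_f
    haveI : Epi ((SheafOfModules.toSheaf (_root_.ModSite.ringSh O_D)).map S.g) := inferInstance
    haveI : PresheafOfModules.IsLocallySurjective K
        ((ModTensor.Monoidal.G.{u, u, u} O_D).map S.g) :=
      (Sheaf.isLocallySurjective_iff_epi'
        (φ := (SheafOfModules.toSheaf (_root_.ModSite.ringSh O_D)).map S.g)).2 inferInstance
    obtain ⟨T₁, hT₁, hlift⟩ := exists_cover_lift K (R := O_D.obj)
      ((ModTensor.Monoidal.G.{u, u, u} O_D).map S.g) (X := op d₁) t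
    refine K.superset_covering (fun d₂ a₂ ha₂ => ?_) hT₁
    obtain ⟨t₀, ht'⟩ := hlift a₂ ha₂
    let t' : Fin l → _root_.ModSite.sect S.X₂ d₂ := t₀
    let v : Fin L → _root_.ModSite.sect S.X₂ d₂ := fun i =>
      res (R := O_D.obj) S.X₂.val (a₂ ≫ a).op (cc i) -
        ∑ q, (O_D.obj.map a₂.op).hom (u i q) • t' q
    have hv : ∀ i, (S.g.val.app (op d₂)).hom (v i) = 0 := fun i => by
      simp only [v, map_sub, map_sum]
      rw [sub_eq_zero]
      refine (res_app (R := O_D.obj) S.g.val (a₂ ≫ a).op _).trans ?_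
      rw [op_comp, res_comp]
      refine (congrArg (res (R := O_D.obj) S.X₃.val a₂.op) (htu i)).trans ?_
      refine (map_sum (res (R := O_D.obj) S.X₃.val a₂.op) _ _).trans ?_
      refine Finset.sum_congr rfl fun q _ => ?_
      refine (res_smul (R := O_D.obj) S.X₃.val a₂.op (u i q) (t q)).trans ?_
      exact ((congrArg (_ • ·) (ht' q)).symm).trans
        ((S.g.val.app (op d₂)).hom.map_smul _ (t' q)).symm
    haveI := (ModTensor.Monoidal.adj.{u, u, u} O_D).isRightAdjoint
    haveI : PreservesFiniteLimits (Iff.ev O_D (op d₂)) := inferInstance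
    haveI : (Iff.ev O_D (op d₂)).Additive :=
      Functor.additive_of_preserves_binary_products _
    have hex : (S.map (Iff.ev O_D (op d₂))).Exact :=
      hS.exact.map_of_mono_of_preservesKernel _ inferInstance inferInstance
    choose e he using fun i => (ShortComplex.ab_exact_iff _).1 hex (v i) (hv i)
    refine ⟨l, t', fun i q => (O_D.obj.map a₂.op).hom (u i q), e, fun i => ?_, fun j q => ?_⟩
    · exact eq_add_of_sub_eq (he i).symm
    · simp only [op_comp, Rel.map_comp_apply, ← map_mul, ← map_sum, hu j q, map_zero]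
  obtain ⟨R₁, hR₁, hlift⟩ := Basic.exists_cover_lift (J := J) K f.fn X.ψ hT₂
  refine J.superset_covering (fun c'' h hh => ?_) hR₁
  obtain ⟨d', a, ψ', ⟨l, t, u, e, he, hu⟩, hψ⟩ := hlift h hh
  let e' : Fin N ⊕ Fin L → _root_.ModSite.sect S.X₁ d' :=
    Sum.elim (fun i => res (R := O_D.obj) S.X₁.val a.op (m i)) e
  have he' : ∀ j, ∑ i, (O_D.obj.map a.op).hom (A i j) • e' i = 0 := fun j => by
    haveI : Mono S.f := hS.mono_f
    haveI := (ModTensor.Monoidal.adj.{u, u, u} O_D).isRightAdjoint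
    have hinj := (PresheafOfModules.mono_iff_surjective
      ((ModTensor.Monoidal.G.{u, u, u} O_D).map S.f)).1 inferInstance
    apply @hinj (op d')
    refine Eq.trans ?_ (map_zero (S.f.val.app (op d')).hom).symm
    refine (map_sum (S.f.val.app (op d')).hom _ _).trans ?_
    refine (Finset.sum_congr rfl fun i _ =>
      (S.f.val.app (op d')).hom.map_smul _ _).trans ?_
    have h₀ := congrArg (res (R := O_D.obj) S.X₂.val a.op) (hA j)
    rw [map_sum, map_zero, Fintype.sum_sum_type] at h₀
    simp only [Sum.elim_inl, Sum.elim_inr, res_smul, he, smul_add, Finset.sum_add_distrib,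
      Finset.smul_sum, smul_smul] at h₀
    rw [Finset.sum_comm (γ := Fin L)] at h₀
    have hu' : ∀ q, ∑ i, (O_D.obj.map a.op).hom (A (Sum.inr i) j) * u i q = 0 := fun q => by
      simpa only [mul_comm] using hu j q
    simp only [← Finset.sum_smul, hu', zero_smul, Finset.sum_const_zero, add_zero] at h₀
    rw [Fintype.sum_sum_type]
    refine Eq.trans ?_ h₀
    refine congrArg₂ (· + ·) (Finset.sum_congr rfl fun i _ => ?_) rfl
    exact congrArg (_ • ·) (res_app (R := O_D.obj) S.f.val a.op (m i))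
  change res (PMod f S.X₁) (h ≫ g).op _ = res (PMod f S.X₁) (h ≫ g).op 0
  refine Eq.trans ?_ (map_zero (res (PMod f S.X₁) (h ≫ g).op)).symm
  refine (map_sum (res (PMod f S.X₁) (h ≫ g).op) _ _).trans ?_
  have hpl : ∀ i, res (PMod f S.X₁) (h ≫ g).op (α i • pl f S.X₁ (x i).1.2 (x i).2) =
      (O_C.obj.map h.op).hom (β i) • pl f S.X₁ ψ' (e' (Sum.inl i)) := fun i => by
    rw [res_smul]
    refine congrArg₂ (· • ·) ?_ ?_
    · simp only [β, op_comp, Rel.map_comp_apply]
    · refine (res_pl f S.X₁ (h ≫ g) _ _).trans ?_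
      have e₁ : (h ≫ g) ≫ (x i).1.2 = ψ' ≫ f.fn.map (a ≫ X.π _ (hx i)) := by
        rw [Functor.map_comp, ← Category.assoc, hψ, Category.assoc, Category.assoc,
          X.hπ _ (hx i)]
      rw [e₁, ← pl_res, op_comp, res_comp]
      rfl
  simp only [hpl]
  let β' : Fin N ⊕ Fin L → O_C.obj.obj (op c') := Sum.elim β (fun _ => 0)
  have hy' : ∀ i, β' i = ∑ j, sh f X.ψ (A i j) * (show O_C.obj.obj (op c') from y j) := fun i => by
    refine Eq.trans ?_ (hy i)
    cases i <;> rfl
  have h₁ : ∑ i, (O_C.obj.map h.op).hom (β' i) • pl f S.X₁ ψ' (e' i) = 0 := by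
    simp only [hy', map_sum, map_mul, sh_res, ← hψ, sh_map, Finset.sum_smul]
    rw [Finset.sum_comm]
    refine Finset.sum_eq_zero fun j _ => ?_
    have h₂ := congrArg (AddMonoidHom.mk' (pl f S.X₁ ψ') (pl_add f S.X₁ ψ')) (he' j)
    rw [map_sum, map_zero] at h₂
    simp only [AddMonoidHom.mk'_apply, pl_smul] at h₂
    refine Eq.trans (Finset.sum_congr rfl fun i _ => ?_)
      ((congrArg ((O_C.obj.map h.op).hom (show O_C.obj.obj (op c') from y j) • ·) h₂).trans
        (smul_zero _) |> fun h₃ => Finset.smul_sum.symm.trans h₃)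
    rw [smul_smul, mul_comm]
  rw [Fintype.sum_sum_type] at h₁
  simpa [β'] using h₁

include hS hH in
/-- `f^*` preserves monomorphisms with flat cokernel. -/
theorem mono_pull_map : Mono (f.pull.map S.f) := by
  classical
  let q := (ModTensor.Monoidal.G.{u, u, u} O_C).map (f.pull.map S.f)
  haveI : PresheafOfModules.IsLocallyInjective J q := by
    refine ⟨fun {U} z z' hzz => ?_⟩
    suffices H : ∀ w : (PMod f S.X₁).obj U, q.app U w = 0 →
        ∃ T ∈ J U.unop, ∀ ⦃Y : C⦄ (g : Y ⟶ U.unop), T g → res (PMod f S.X₁) g.op w = 0 by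
      obtain ⟨T, hT, h0⟩ := H (show (PMod f S.X₁).obj U from (z : (PMod f S.X₁).obj U) - z')
        ((map_sub (q.app U).hom _ _).trans (sub_eq_zero.2 hzz))
      refine J.superset_covering (fun Y g hg => ?_) hT
      exact sub_eq_zero.1 ((map_sub (res (PMod f S.X₁) g.op) _ _).symm.trans (h0 g hg))
    intro w hw
    let Good : Sieve U.unop :=
      Presheaf.equalizerSieve (F := (PMod f S.X₁).presheaf) w (0 : (PMod f S.X₁).obj U)
    refine ⟨Good, ?_, fun Y g hg =>
      (show res (PMod f S.X₁) g.op _ = res (PMod f S.X₁) g.op 0 from hg).trans (map_zero _)⟩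
    obtain ⟨R₁, hR₁, hlift⟩ := exists_cover_eps f S.X₁ (c := U.unop) (fun _ : Fin 1 => w)
    refine J.transitive hR₁ _ (fun c' g hg => ?_)
    obtain ⟨z, hz⟩ := hlift g hg
    obtain ⟨N, x, α, hα⟩ := Flat.exists_common_support z
    let z₂ : (Fr f S.X₂).obj (op c') :=
      ∑ i, α 0 i • b f S.X₂ (c := op c') (x i).1.2 (S.f.val.app (op (x i).1.1) (x i).2)
    have hw₁ : res (PMod f S.X₁) g.op w = ∑ i, α 0 i • pl f S.X₁ (x i).1.2 (x i).2 := by
      refine (hz 0).symm.trans ((congrArg _ (hα 0)).trans ?_)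
      rw [map_sum]
      exact Finset.sum_congr rfl fun i _ =>
        (((eps f S.X₁).app (op c')).hom.map_smul _ _).trans (congrArg (_ • ·) (eps_b f _ _ _))
    have hz₂ : (eps f S.X₂).app (op c') z₂ = 0 := by
      have h0 : q.app (op c') (res (PMod f S.X₁) g.op w) = 0 :=
        (res_app (R := O_C.obj) q g.op w).trans
          ((congrArg (res (PMod f S.X₂) g.op) hw).trans (map_zero _))
      rw [hw₁, map_sum] at h0
      refine Eq.trans ?_ h0
      refine (map_sum ((eps f S.X₂).app (op c')).hom _ _).trans (Finset.sum_congr rfl fun i _ => ?_)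
      refine (((eps f S.X₂).app (op c')).hom.map_smul _ _).trans ?_
      refine (congrArg (α 0 i • ·) ((eps_b f S.X₂ (c := op c') (x i).1.2 _).trans
        (map_pl S.f (x i).1.2 (x i).2).symm)).trans ?_
      exact ((q.app (op c')).hom.map_smul _ _).symm
    obtain ⟨R₂, hR₂, hspan⟩ := exists_cover_span f S.X₂ hz₂
    refine J.transitive hR₂ _ (fun c'' h hh => ?_)
    let x' : Fin N → (Sym f S.X₁).obj (op c'') := fun i =>
      mkSym f S.X₁ (c := op c'') (h ≫ (x i).1.2) (x i).2
    have e : res (Fr f S.X₂) h.op z₂ = ∑ i, (O_C.obj.map h.op).hom (α 0 i) •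
        b f S.X₂ (c := op c'') (x' i).1.2 (S.f.val.app (op (x' i).1.1) (x' i).2) := by
      simp only [z₂, map_sum, res_smul, res_b]
      rfl
    obtain ⟨R₃, hR₃, hzero⟩ := zero_of_killed S hS hH x'
      (fun i => (O_C.obj.map h.op).hom (α 0 i)) (killed_of_mem_span (e ▸ hspan h hh))
    refine J.superset_covering (fun Z k hk => ?_) hR₃
    change res (PMod f S.X₁) ((k ≫ h) ≫ g).op w = res (PMod f S.X₁) ((k ≫ h) ≫ g).op 0
    rw [map_zero, op_comp, res_comp, hw₁, op_comp, res_comp]
    refine Eq.trans (congrArg (res (PMod f S.X₁) k.op) ?_) (hzero k hk)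
    rw [map_sum]
    refine Finset.sum_congr rfl fun i _ => ?_
    rw [res_smul]
    exact congrArg (_ • ·) (res_pl f S.X₁ h _ _)
  have := Iff.mono_L_map q
  let e := ModTensor.Monoidal.counitIso.{u, u, u} O_C
  exact (MorphismProperty.monomorphisms _).arrow_mk_iso_iff
    (Arrow.isoMk (e.app _) (e.app _) (e.hom.naturality (f.pull.map S.f)).symm) |>.1
    (show Mono ((ModTensor.Monoidal.L.{u, u, u} O_C).map q) from this)

end Groth.Agent.Lib.RMorLocal.Mono
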