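import Mathlib.CategoryTheory.Sites.Pullback
import Mathlib.CategoryTheory.Sites.Subsheaf
import Mathlib.CategoryTheory.Sites.LocallyBijective
import Mathlib.CategoryTheory.Limits.Preserves.Shapes.BinaryProducts
import Mathlib.CategoryTheory.Limits.Preserves.Shapes.Equalizers
import Mathlib.CategoryTheory.Limits.Types.Products
import Mathlib.CategoryTheory.Limits.Types.Equalizers

/-!
# Continuous functors with exact pullback of sheaves of sets

For such a functor `fn : D ⥤ C` the categories of arrows `c ⟶ fn d` are locally cofiltered, and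
covering sieves in `D` lift locally.
-/

set_option linter.style.haveILetI false

universe u

open CategoryTheory Limits Opposite

namespace Groth.Agent.Lib.RMorLocal.Basic

variable {C D : Type u} [SmallCategory C] [SmallCategory D] {J : GrothendieckTopology C}
  {K : GrothendieckTopology D} (fn : D ⥤ C) [fn.IsContinuous K J]

variable (J K) in
/-- Pullback of presheaves of sets to sheaves. -/
noncomputable def Φ : (Dᵒᵖ ⥤ Type u) ⥤ Sheaf J (Type u) :=
  presheafToSheaf K (Type u) ⋙ fn.sheafPullback (Type u) K J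

variable (J K) in
/-- The adjunction of `Φ` with restriction. -/
noncomputable def adjΦ : Φ J K fn ⊣
    fn.sheafPushforwardContinuous (Type u) K J ⋙ sheafToPresheaf K (Type u) :=
  (sheafificationAdjunction K (Type u)).comp (fn.sheafAdjunctionContinuous (Type u) K J)

variable (J K) in
/-- The unit. -/
noncomputable def un (P : Dᵒᵖ ⥤ Type u) : P ⟶ fn.op ⋙ ((Φ J K fn).obj P).obj :=
  (adjΦ J K fn).unit.app P

variable (J K) in
/-- The section defined by `ψ : c ⟶ fn d` and a section over `d`. -/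
noncomputable def ev {P : Dᵒᵖ ⥤ Type u} {c : C} {d : D} (ψ : c ⟶ fn.obj d) (x : P.obj (op d)) :
    ((Φ J K fn).obj P).obj.obj (op c) :=
  ((Φ J K fn).obj P).obj.map ψ.op ((un J K fn P).app (op d) x)

lemma map_ev {P : Dᵒᵖ ⥤ Type u} {c c' : C} {d : D} (ψ : c ⟶ fn.obj d) (g : c' ⟶ c)
    (x : P.obj (op d)) :
    ((Φ J K fn).obj P).obj.map g.op (ev J K fn ψ x) = ev J K fn (g ≫ ψ) x := by
  simp only [ev, op_comp, Functor.map_comp]
  rfl

lemma ev_map {P : Dᵒᵖ ⥤ Type u} {c : C} {d d' : D} (ψ : c ⟶ fn.obj d') (g : d' ⟶ d)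
    (x : P.obj (op d)) :
    ev J K fn ψ (P.map g.op x) = ev J K fn (ψ ≫ fn.map g) x := by
  simp only [ev, op_comp, Functor.map_comp]
  exact congrArg (((Φ J K fn).obj P).obj.map ψ.op)
    (NatTrans.naturality_apply (un J K fn P) g.op x)

lemma app_ev {P Q : Dᵒᵖ ⥤ Type u} (α : P ⟶ Q) {c : C} {d : D} (ψ : c ⟶ fn.obj d)
    (x : P.obj (op d)) :
    ((Φ J K fn).map α).hom.app (op c) (ev J K fn ψ x) = ev J K fn ψ (α.app (op d) x) := by
  refine (NatTrans.naturality_apply ((Φ J K fn).map α).hom ψ.op _).trans ?_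
  exact congrArg (((Φ J K fn).obj Q).obj.map ψ.op)
    (congrArg (fun q => q.app (op d) x) ((adjΦ J K fn).unit.naturality α)).symm

variable (J K) in
/-- The sections of the form `ev`. -/
noncomputable def evImage (P : Dᵒᵖ ⥤ Type u) : Subfunctor ((Φ J K fn).obj P).obj where
  obj c := {z | ∃ (d : D) (ψ : c.unop ⟶ fn.obj d) (x : P.obj (op d)), ev J K fn ψ x = z}
  map := by
    rintro c c' g z ⟨d, ψ, x, rfl⟩
    exact ⟨d, g.unop ≫ ψ, x, (map_ev fn ψ g.unop x).symm⟩

/-- Every section is locally of the form `ev`. -/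
theorem exists_cover_ev {P : Dᵒᵖ ⥤ Type u} {c : C} (z : ((Φ J K fn).obj P).obj.obj (op c)) :
    ∃ S ∈ J c, ∀ ⦃c' : C⦄ (g : c' ⟶ c), S g →
      ∃ (d : D) (ψ : c' ⟶ fn.obj d) (x : P.obj (op d)),
        ev J K fn ψ x = ((Φ J K fn).obj P).obj.map g.op z := by
  let X := ((Φ J K fn).obj P).obj
  have hX : Presieve.IsSheaf J X :=
    (isSheaf_iff_isSheaf_of_type _ _).1 ((Φ J K fn).obj P).property
  let G := (evImage J K fn P).sheafify J
  let Gs : Sheaf J (Type u) :=
    ⟨G.toFunctor, (isSheaf_iff_isSheaf_of_type _ _).2 (Subfunctor.sheafify_isSheaf _ hX)⟩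
  let t : P ⟶ fn.op ⋙ G.toFunctor :=
    { app := fun d => ↾fun x => ⟨(un J K fn P).app d x,
        (evImage J K fn P).le_sheafify J _ ⟨d.unop, 𝟙 _, x, by
          change X.map (𝟙 _) _ = _
          exact congrArg (fun q => q ((un J K fn P).app d x)) (X.map_id _)⟩⟩
      naturality := fun d d' g => by
        ext x
        apply Subtype.ext
        exact NatTrans.naturality_apply (un J K fn P) g x }
  let r : (Φ J K fn).obj P ⟶ Gs := ((adjΦ J K fn).homEquiv P Gs).symm t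
  let ι : Gs ⟶ (Φ J K fn).obj P := ⟨G.ι⟩
  have hr : r ≫ ι = 𝟙 _ := by
    apply ((adjΦ J K fn).homEquiv P _).injective
    rw [Adjunction.homEquiv_naturality_right, Equiv.apply_symm_apply, Adjunction.homEquiv_id]
    rfl
  have hz : z = G.ι.app (op c) (r.hom.app (op c) z) :=
    (congrArg (fun q => q.hom.app (op c) z) hr).symm
  refine ⟨_, (r.hom.app (op c) z).property, fun c' g hg => ?_⟩
  obtain ⟨d, ψ, x, hx⟩ := hg
  exact ⟨d, ψ, x, hx.trans (congrArg (X.map g.op) hz.symm)⟩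

variable (J K) in
/-- The canonical section of `Φ (yoneda d)` over `c` given by `ψ`. -/
noncomputable abbrev evY {c : C} {d : D} (ψ : c ⟶ fn.obj d) :
    ((Φ J K fn).obj (yoneda.obj d)).obj.obj (op c) :=
  ev J K fn (P := yoneda.obj d) ψ (𝟙 d)

lemma ev_eq_evY {c : C} {d d' : D} (ψ : c ⟶ fn.obj d') (g : d' ⟶ d) :
    ev J K fn (P := yoneda.obj d) ψ g = evY J K fn (ψ ≫ fn.map g) := by
  refine Eq.trans ?_ (ev_map fn (P := yoneda.obj d) ψ g (𝟙 d))
  exact congrArg (ev J K fn (P := yoneda.obj d) ψ) (Category.comp_id g).symm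

/-- Equal sections given by arrows come from locally equal arrows. -/
theorem exists_cover_eq {c : C} {d : D} (ψ ψ' : c ⟶ fn.obj d)
    (h : evY J K fn ψ = evY J K fn ψ') :
    ∃ S ∈ J c, ∀ ⦃c' : C⦄ (g : c' ⟶ c), S g → g ≫ ψ = g ≫ ψ' := by
  let H := (presheafToSheaf J (Type u)).obj (yoneda.obj (fn.obj d))
  let η := (sheafificationAdjunction J (Type u)).unit.app (yoneda.obj (fn.obj d))
  let t : yoneda.obj d ⟶ fn.op ⋙ H.obj :=
    yonedaEquiv.symm (η.app (op (fn.obj d)) (𝟙 (fn.obj d)))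
  let r : (Φ J K fn).obj (yoneda.obj d) ⟶ H := ((adjΦ J K fn).homEquiv _ H).symm t
  have e : ∀ χ : c ⟶ fn.obj d, r.hom.app (op c) (evY J K fn χ) = η.app (op c) χ := fun χ => by
    refine (NatTrans.naturality_apply r.hom χ.op _).trans ?_
    have e₁ : r.hom.app (op (fn.obj d)) ((un J K fn (yoneda.obj d)).app (op d) (𝟙 d)) =
        η.app (op (fn.obj d)) (𝟙 (fn.obj d)) :=
      (congrArg (fun q => q.app (op d) (𝟙 d))
        ((Adjunction.homEquiv_unit _ _ _ _).symm.trans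
          (((adjΦ J K fn).homEquiv _ H).apply_symm_apply t))).trans
        (yonedaEquiv.apply_symm_apply _)
    refine (congrArg (H.obj.map χ.op) e₁).trans ?_
    refine (NatTrans.naturality_apply η χ.op (𝟙 (fn.obj d))).symm.trans ?_
    exact congrArg (η.app (op c)) (Category.comp_id χ)
  have hη : η.app (op c) ψ = η.app (op c) ψ' :=
    (e ψ).symm.trans ((congrArg (r.hom.app (op c)) h).trans (e ψ'))
  haveI : Presheaf.IsLocallyInjective J η := by
    change Presheaf.IsLocallyInjective J (toSheafify J _)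
    infer_instance
  exact ⟨Presheaf.equalizerSieve (F := yoneda.obj (fn.obj d)) (X := op c) ψ ψ',
    Presheaf.equalizerSieve_mem J η (X := op c) ψ ψ' hη, fun c' g hg => hg⟩

section Limits

variable [PreservesFiniteLimits (fn.sheafPullback (Type u) K J)]

instance : PreservesFiniteLimits (Φ J K fn) := comp_preservesFiniteLimits _ _

variable (J K) in
/-- Sections of `Φ` over an object. -/
noncomputable abbrev Ev (c : C) : (Dᵒᵖ ⥤ Type u) ⥤ Type u :=
  Φ J K fn ⋙ sheafToPresheaf J (Type u) ⋙ (evaluation _ _).obj (op c)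

variable (K)

include K

/-- Two objects are locally dominated by one. -/
theorem exists_cover_prod {c : C} {d₁ d₂ : D} (ψ₁ : c ⟶ fn.obj d₁) (ψ₂ : c ⟶ fn.obj d₂) :
    ∃ S ∈ J c, ∀ ⦃c' : C⦄ (g : c' ⟶ c), S g → ∃ (d : D) (a : d ⟶ d₁) (b : d ⟶ d₂)
      (ψ : c' ⟶ fn.obj d), ψ ≫ fn.map a = g ≫ ψ₁ ∧ ψ ≫ fn.map b = g ≫ ψ₂ := by
  haveI : PreservesFiniteLimits (Ev J K fn c) := comp_preservesFiniteLimits _ _
  let P : Dᵒᵖ ⥤ Type u := Limits.prod (yoneda.obj d₁) (yoneda.obj d₂)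
  let w : (Ev J K fn c).obj P :=
    (PreservesLimitPair.iso (Ev J K fn c) (yoneda.obj d₁) (yoneda.obj d₂)).inv
      ((Types.binaryProductIso _ _).inv (evY J K fn ψ₁, evY J K fn ψ₂))
  have h₁ : (Ev J K fn c).map (Limits.prod.fst : P ⟶ _) w = evY J K fn ψ₁ := by
    refine (congrArg (fun q => q ((Types.binaryProductIso _ _).inv (evY J K fn ψ₁, evY J K fn ψ₂)))
      (PreservesLimitPair.iso_inv_fst (Ev J K fn c) (yoneda.obj d₁) (yoneda.obj d₂))).trans ?_
    exact congrArg (fun q => q ((evY J K fn ψ₁, evY J K fn ψ₂) : _ × _))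
      (Types.binaryProductIso_inv_comp_fst _ _)
  have h₂ : (Ev J K fn c).map (Limits.prod.snd : P ⟶ _) w = evY J K fn ψ₂ := by
    refine (congrArg (fun q => q ((Types.binaryProductIso _ _).inv (evY J K fn ψ₁, evY J K fn ψ₂)))
      (PreservesLimitPair.iso_inv_snd (Ev J K fn c) (yoneda.obj d₁) (yoneda.obj d₂))).trans ?_
    exact congrArg (fun q => q ((evY J K fn ψ₁, evY J K fn ψ₂) : _ × _))
      (Types.binaryProductIso_inv_comp_snd _ _)
  obtain ⟨S, hS, hgen⟩ := exists_cover_ev fn w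
  refine ⟨Sieve.bind S.arrows (fun Y g hg => ?_), ?_, ?_⟩
  · exact
      { arrows := fun c' h => ∃ (d : D) (a : d ⟶ d₁) (b : d ⟶ d₂) (ψ : c' ⟶ fn.obj d),
          ψ ≫ fn.map a = (h ≫ g) ≫ ψ₁ ∧ ψ ≫ fn.map b = (h ≫ g) ≫ ψ₂
        downward_closed := by
          rintro Y' Z h ⟨d, a, b, ψ, ha, hb⟩ k
          exact ⟨d, a, b, k ≫ ψ, by simp only [Category.assoc, ha],
            by simp only [Category.assoc, hb]⟩ }
  · refine J.bind_covering hS (fun Y g hg => ?_)
    obtain ⟨d, ψ, x, hx⟩ := hgen g hg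
    have e₁ : evY J K fn (ψ ≫ fn.map ((Limits.prod.fst : P ⟶ _).app (op d) x)) =
        evY J K fn (g ≫ ψ₁) := by
      rw [← ev_eq_evY, ← app_ev, hx]
      refine (NatTrans.naturality_apply ((Φ J K fn).map (Limits.prod.fst : P ⟶ _)).hom
        g.op w).trans ?_
      exact (congrArg _ h₁).trans (map_ev fn ψ₁ g _)
    have e₂ : evY J K fn (ψ ≫ fn.map ((Limits.prod.snd : P ⟶ _).app (op d) x)) =
        evY J K fn (g ≫ ψ₂) := by
      rw [← ev_eq_evY, ← app_ev, hx]
      refine (NatTrans.naturality_apply ((Φ J K fn).map (Limits.prod.snd : P ⟶ _)).hom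
        g.op w).trans ?_
      exact (congrArg _ h₂).trans (map_ev fn ψ₂ g _)
    obtain ⟨S₁, hS₁, H₁⟩ := exists_cover_eq fn _ _ e₁
    obtain ⟨S₂, hS₂, H₂⟩ := exists_cover_eq fn _ _ e₂
    refine J.superset_covering (fun Z h hh => ?_) (J.intersection_covering hS₁ hS₂)
    exact ⟨d, _, _, h ≫ ψ, by simpa only [Category.assoc] using H₁ h hh.1,
      by simpa only [Category.assoc] using H₂ h hh.2⟩
  · rintro c' _ ⟨Y, h, g, hg, ⟨d, a, b, ψ, ha, hb⟩, rfl⟩
    exact ⟨d, a, b, ψ, ha, hb⟩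

/-- Two parallel arrows with equal composites are locally equalised. -/
theorem exists_cover_equalizer {c : C} {d d₁ : D} (a b : d ⟶ d₁) (ψ : c ⟶ fn.obj d)
    (h : ψ ≫ fn.map a = ψ ≫ fn.map b) :
    ∃ S ∈ J c, ∀ ⦃c' : C⦄ (g : c' ⟶ c), S g → ∃ (d' : D) (e : d' ⟶ d) (ψ' : c' ⟶ fn.obj d'),
      e ≫ a = e ≫ b ∧ ψ' ≫ fn.map e = g ≫ ψ := by
  haveI : PreservesFiniteLimits (Ev J K fn c) := comp_preservesFiniteLimits _ _
  let α := yoneda.map a
  let β := yoneda.map b
  have hαβ : (Ev J K fn c).map α (evY J K fn ψ) = (Ev J K fn c).map β (evY J K fn ψ) := by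
    refine (app_ev fn α ψ (𝟙 d)).trans ((app_ev fn β ψ (𝟙 d)).trans ?_).symm
    change ev J K fn (P := yoneda.obj d₁) ψ (𝟙 d ≫ b) = ev J K fn (P := yoneda.obj d₁) ψ (𝟙 d ≫ a)
    rw [Category.id_comp, Category.id_comp, ev_eq_evY, ev_eq_evY, h]
  let w : (Ev J K fn c).obj (equalizer α β) :=
    (PreservesEqualizer.iso (Ev J K fn c) α β).inv
      ((Types.equalizerIso _ _).inv ⟨evY J K fn ψ, hαβ⟩)
  have hw : (Ev J K fn c).map (equalizer.ι α β) w = evY J K fn ψ := by
    refine (congrArg (fun q => q ((Types.equalizerIso _ _).inv ⟨evY J K fn ψ, hαβ⟩))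
      (PreservesEqualizer.iso_inv_ι (Ev J K fn c) α β)).trans ?_
    exact congrArg (fun q => q ⟨evY J K fn ψ, hαβ⟩) (Types.equalizerIso_inv_comp_ι _ _)
  obtain ⟨S, hS, hgen⟩ := exists_cover_ev fn w
  refine ⟨Sieve.bind S.arrows (fun Y g hg => ?_), ?_, ?_⟩
  · exact
      { arrows := fun c' h' => ∃ (d' : D) (e : d' ⟶ d) (ψ' : c' ⟶ fn.obj d'),
          e ≫ a = e ≫ b ∧ ψ' ≫ fn.map e = (h' ≫ g) ≫ ψ
        downward_closed := by
          rintro Y' Z h' ⟨d', e, ψ', he, hψ⟩ k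
          exact ⟨d', e, k ≫ ψ', he, by simp only [Category.assoc, hψ]⟩ }
  · refine J.bind_covering hS (fun Y g hg => ?_)
    obtain ⟨d', ψ', x, hx⟩ := hgen g hg
    have e₁ : evY J K fn (ψ' ≫ fn.map ((equalizer.ι α β).app (op d') x)) = evY J K fn (g ≫ ψ) := by
      rw [← ev_eq_evY, ← app_ev, hx]
      refine (NatTrans.naturality_apply ((Φ J K fn).map (equalizer.ι α β)).hom g.op w).trans ?_
      exact (congrArg _ hw).trans (map_ev fn ψ g _)
    obtain ⟨S₁, hS₁, H₁⟩ := exists_cover_eq fn _ _ e₁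
    refine J.superset_covering (fun Z h' hh => ?_) hS₁
    exact ⟨d', _, h' ≫ ψ', congrArg (fun q => q.app (op d') x) (equalizer.condition α β),
      (Category.assoc _ _ _).trans ((H₁ h' hh).trans (Category.assoc _ _ _).symm)⟩
  · rintro c' _ ⟨Y, h', g, hg, ⟨d', e, ψ', he, hψ⟩, rfl⟩
    exact ⟨d', e, ψ', he, hψ⟩

omit [PreservesFiniteLimits (fn.sheafPullback (Type u) K J)] in
/-- Covering sieves lift locally. -/
theorem exists_cover_lift {c : C} {d : D} (ψ : c ⟶ fn.obj d) {T : Sieve d} (hT : T ∈ K d) :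
    ∃ S ∈ J c, ∀ ⦃c' : C⦄ (g : c' ⟶ c), S g → ∃ (d' : D) (h : d' ⟶ d) (ψ' : c' ⟶ fn.obj d'),
      T h ∧ ψ' ≫ fn.map h = g ≫ ψ := by
  haveI : Presheaf.IsLocallyInjective K T.functorInclusion :=
    Presheaf.isLocallyInjective_of_injective _ _ (fun X => fun p q hpq => Subtype.ext hpq)
  haveI : Presheaf.IsLocallySurjective K T.functorInclusion :=
    ⟨fun {X} s => K.superset_covering (fun Y g hg => ⟨⟨g ≫ s, hg⟩, rfl⟩)
      (K.pullback_stable s hT)⟩
  haveI : IsIso ((presheafToSheaf K (Type u)).map T.functorInclusion) :=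
    (K.W_iff _).1 (K.W_of_isLocallyBijective _)
  haveI : IsIso ((Ev J K fn c).map T.functorInclusion) := by
    dsimp only [Ev, Φ, Functor.comp_map]
    infer_instance
  let w := inv ((Ev J K fn c).map T.functorInclusion) (evY J K fn ψ)
  have hw : (Ev J K fn c).map T.functorInclusion w = evY J K fn ψ :=
    congrArg (fun q => q (evY J K fn ψ)) (IsIso.inv_hom_id ((Ev J K fn c).map T.functorInclusion))
  obtain ⟨S, hS, hgen⟩ := exists_cover_ev fn w
  refine ⟨Sieve.bind S.arrows (fun Y g hg => ?_), ?_, ?_⟩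
  · exact
      { arrows := fun c' h' => ∃ (d' : D) (h : d' ⟶ d) (ψ' : c' ⟶ fn.obj d'),
          T h ∧ ψ' ≫ fn.map h = (h' ≫ g) ≫ ψ
        downward_closed := by
          rintro Y' Z h' ⟨d', h, ψ', hh, hψ⟩ k
          exact ⟨d', h, k ≫ ψ', hh, by simp only [Category.assoc, hψ]⟩ }
  · refine J.bind_covering hS (fun Y g hg => ?_)
    obtain ⟨d', ψ', x, hx⟩ := hgen g hg
    have e₁ : evY J K fn (ψ' ≫ fn.map x.1) = evY J K fn (g ≫ ψ) := by
      rw [← ev_eq_evY]
      refine (app_ev fn T.functorInclusion ψ' x).symm.trans ?_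
      rw [hx]
      refine (NatTrans.naturality_apply ((Φ J K fn).map T.functorInclusion).hom g.op w).trans ?_
      exact (congrArg _ hw).trans (map_ev fn ψ g _)
    obtain ⟨S₁, hS₁, H₁⟩ := exists_cover_eq fn _ _ e₁
    refine J.superset_covering (fun Z h' hh => ?_) hS₁
    exact ⟨d', x.1, h' ≫ ψ', x.2, by simpa only [Category.assoc] using H₁ h' hh⟩
  · rintro c' _ ⟨Y, h', g, hg, ⟨d', h, ψ', hh, hψ⟩, rfl⟩
    exact ⟨d', h, ψ', hh, hψ⟩

end Limits

end Groth.Agent.Lib.RMorLocal.Basic
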