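import Groth.Agent.Lib.RMorLocal.Basic

/-!
# Finite diagrams of arrows `c ⟶ fn d` are locally dominated
-/

set_option linter.style.haveILetI false

universe u

open CategoryTheory Limits Opposite

namespace Groth.Agent.Lib.RMorLocal.Cone

variable {C D : Type u} [SmallCategory C] [SmallCategory D] {J : GrothendieckTopology C}
  (K : GrothendieckTopology D) (fn : D ⥤ C) [fn.IsContinuous K J]
  [PreservesFiniteLimits (fn.sheafPullback (Type u) K J)]

/-- An object over `c`. -/
abbrev Pr (c : C) : Type u := Σ d : D, (c ⟶ fn.obj d)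

/-- A relation between objects over `c`. -/
structure Eqn (c : C) : Type u where
  /-- source -/
  src : Pr fn c
  /-- target -/
  tgt : Pr fn c
  /-- the arrow -/
  g : src.1 ⟶ tgt.1
  w : src.2 ≫ fn.map g = tgt.2

/-- Data of a cone over a finite family of objects and equations. -/
structure Dat {c c' : C} (g : c' ⟶ c) (P : Finset (Pr fn c)) (E : Finset (Eqn fn c)) : Type u where
  /-- the vertex -/
  d : D
  /-- its structure map -/
  ψ : c' ⟶ fn.obj d
  /-- the projections -/
  π : ∀ p ∈ P, d ⟶ p.1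
  hπ : ∀ p hp, ψ ≫ fn.map (π p hp) = g ≫ p.2
  hE : ∀ e ∈ E, ∀ (hs : e.src ∈ P) (ht : e.tgt ∈ P), π _ hs ≫ e.g = π _ ht

/-- The arrows along which a cone exists. -/
def coneSieve {c : C} (P : Finset (Pr fn c)) (E : Finset (Eqn fn c)) : Sieve c where
  arrows _ g := Nonempty (Dat fn g P E)
  downward_closed := by
    rintro Y Z g ⟨x⟩ h
    exact ⟨⟨x.d, h ≫ x.ψ, x.π, fun p hp => by simp only [Category.assoc, x.hπ], x.hE⟩⟩

include K in
theorem coneSieve_mem_nil {c : C} (P : Finset (Pr fn c)) (hP : P.Nonempty) :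
    coneSieve fn P ∅ ∈ J c := by
  classical
  induction hP using Finset.Nonempty.cons_induction with
  | singleton a =>
    refine J.superset_covering (fun Y g _ => ?_) (J.top_mem c)
    exact ⟨⟨a.1, g ≫ a.2, fun p hp => eqToHom (by rw [Finset.mem_singleton.1 hp]),
      fun p hp => by
        obtain rfl := Finset.mem_singleton.1 hp
        simp,
      fun e he => absurd he (Finset.notMem_empty e)⟩⟩
  | cons a s ha hs ih =>
    refine J.transitive ih _ (fun Y g hg => ?_)
    obtain ⟨x⟩ := hg
    obtain ⟨S, hS, H⟩ := Basic.exists_cover_prod (J := J) K fn x.ψ (g ≫ a.2)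
    refine J.superset_covering (fun Z h hh => ?_) hS
    obtain ⟨d, u, v, ψ, hu, hv⟩ := H h hh
    refine ⟨⟨d, ψ, fun p hp => if e : p = a then v ≫ eqToHom (by rw [e]) else
      u ≫ x.π p ((Finset.mem_cons.1 hp).resolve_left e), fun p hp => ?_,
      fun e he => absurd he (Finset.notMem_empty e)⟩⟩
    by_cases e : p = a
    · subst e
      simp [hv]
    · simp [e, Functor.map_comp, reassoc_of% hu, x.hπ]

include K in
theorem coneSieve_mem {c : C} (P : Finset (Pr fn c)) (hP : P.Nonempty) (E : Finset (Eqn fn c)) :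
    coneSieve fn P E ∈ J c := by
  classical
  induction E using Finset.induction with
  | empty => exact coneSieve_mem_nil K fn P hP
  | insert a s _ ih =>
    refine J.transitive ih _ (fun Y g hg => ?_)
    obtain ⟨x⟩ := hg
    by_cases h₀ : a.src ∈ P ∧ a.tgt ∈ P
    · obtain ⟨S, hS, H⟩ := Basic.exists_cover_equalizer (J := J) K fn (x.π _ h₀.1 ≫ a.g) (x.π _ h₀.2) x.ψ
        (by rw [Functor.map_comp, reassoc_of% x.hπ, a.w, x.hπ])
      refine J.superset_covering (fun Z h hh => ?_) hS
      obtain ⟨d, e, ψ, he, hψ⟩ := H h hh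
      refine ⟨⟨d, ψ, fun p hp => e ≫ x.π p hp, fun p hp => ?_, fun b hb hs ht => ?_⟩⟩
      · rw [Functor.map_comp, reassoc_of% hψ, x.hπ, Category.assoc]
      · obtain rfl | hb := Finset.mem_insert.1 hb
        · simpa only [Category.assoc] using he
        · simp only [Category.assoc, x.hE b hb hs ht]
    · refine J.superset_covering (fun Z h _ => ?_) (J.top_mem Y)
      refine (coneSieve fn P (insert a s)).downward_closed (f := g) ?_ h
      refine ⟨⟨x.d, x.ψ, x.π, x.hπ, fun b hb hs ht => ?_⟩⟩
      obtain rfl | hb := Finset.mem_insert.1 hb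
      · exact absurd ⟨hs, ht⟩ h₀
      · exact x.hE b hb hs ht

end Groth.Agent.Lib.RMorLocal.Cone
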