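import Groth.Agent.Lib.RMorLocal.Pull
import Groth.Agent.Lib.RMorLocal.Cone
import Mathlib.Algebra.Category.ModuleCat.ChangeOfRings

/-!
# Relations between symbols vanish in the tensor product over a dominating object
-/

set_option linter.style.haveILetI false

universe u

open CategoryTheory Limits Opposite TensorProduct

namespace Groth.Agent.Lib.RMorLocal.Kill

open Groth.Agent.Lib.ModTensor.Local Groth.Agent.Lib.RMorLocal.Pull

variable {C D : Type u} [SmallCategory C] [SmallCategory D] {J : GrothendieckTopology C}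
  {K : GrothendieckTopology D} {O_C : Sheaf J CommRingCat.{u}} {O_D : Sheaf K CommRingCat.{u}}
  (f : _root_.ModSite.RMor O_C O_D) (M : _root_.ModSite.Mod O_D)

/-- `O_C(c)` as a module over `O_D(d)`. -/
noncomputable abbrev Ob {c : C} {d : D} (ψ : c ⟶ f.fn.obj d) : ModuleCat.{u} (O_D.obj.obj (op d)) :=
  (ModuleCat.restrictScalars (sh f ψ)).obj (ModuleCat.of (O_C.obj.obj (op c)) (O_C.obj.obj (op c)))

/-- An element of `O_C(c)` in `Ob`. -/
noncomputable def toOb {c : C} {d : D} (ψ : c ⟶ f.fn.obj d) :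
    O_C.obj.obj (op c) →+ Ob f ψ :=
  AddMonoidHom.id _

lemma toOb_mul {c : C} {d : D} (ψ : c ⟶ f.fn.obj d) (r : O_D.obj.obj (op d))
    (a : O_C.obj.obj (op c)) : toOb f ψ (sh f ψ r * a) = r • toOb f ψ a := rfl

/-- The target of `phi`. -/
noncomputable abbrev Tgt {c : C} {d : D} (ψ : c ⟶ f.fn.obj d) : Type u :=
  TensorProduct (O_D.obj.obj (op d)) (_root_.ModSite.sect M d) (Ob f ψ)

variable {f M} {c c' : C} {g : c' ⟶ c} {P : Finset (Cone.Pr f.fn c)}
  {E : Finset (Cone.Eqn f.fn c)}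

open scoped Classical in
/-- A combination of symbols as a tensor over the vertex of a cone. -/
noncomputable def phi (x : Cone.Dat f.fn g P E) : (Fr f M).obj (op c) →+ Tgt f M x.ψ :=
  (Finsupp.liftAddHom (fun s : (Sym f M).obj (op c) =>
    if h : s.1 ∈ P then
      (TensorProduct.mk (O_D.obj.obj (op x.d)) (_root_.ModSite.sect M x.d) (Ob f x.ψ)
          (res (R := O_D.obj) M.val (x.π _ h).op s.2)).toAddMonoidHom.comp
        ((toOb f x.ψ).comp (O_C.obj.map g.op).hom.toAddMonoidHom)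
    else 0) : ((Sym f M).obj (op c) →₀ O_C.obj.obj (op c)) →+ Tgt f M x.ψ)

lemma phi_smul_b (x : Cone.Dat f.fn g P E) {d : D} (ψ : c ⟶ f.fn.obj d)
    (hp : (⟨d, ψ⟩ : Cone.Pr f.fn c) ∈ P) (m : _root_.ModSite.sect M d)
    (r : O_C.obj.obj (op c)) :
    phi x (r • b f M (c := op c) ψ m) =
      (res (R := O_D.obj) M.val (x.π _ hp).op m : _root_.ModSite.sect M x.d) ⊗ₜ[O_D.obj.obj (op x.d)]
        toOb f x.ψ ((O_C.obj.map g.op).hom r) := by
  classical
  have e : (r • b f M (c := op c) ψ m : (Fr f M).obj (op c)) =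
      (Finsupp.single (mkSym f M (c := op c) ψ m) r :
        (Sym f M).obj (op c) →₀ O_C.obj.obj (op c)) :=
    ((Finsupp.smul_single r _ (1 : O_C.obj.obj (op c))).trans
      (congrArg (Finsupp.single _) (mul_one r)))
  refine (congrArg (phi x) e).trans ?_
  refine (Finsupp.liftAddHom_apply_single _ _ r).trans ?_
  rw [dif_pos (show (mkSym f M (c := op c) ψ m).1 ∈ P from hp)]
  rfl

/-- A combination of symbols which vanishes over all large enough cones. -/
def Killed (z : (Fr f M).obj (op c)) : Prop :=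
  ∃ (P : Finset (Cone.Pr f.fn c)) (E : Finset (Cone.Eqn f.fn c)), ∀ P', P ⊆ P' → ∀ E', E ⊆ E' →
    ∀ {c' : C} (g : c' ⟶ c) (x : Cone.Dat f.fn g P' E'), phi x z = 0

lemma killed_zero : Killed (0 : (Fr f M).obj (op c)) :=
  ⟨∅, ∅, fun _ _ _ _ _ _ x => map_zero (phi x)⟩

lemma killed_add {z z' : (Fr f M).obj (op c)} (h : Killed z) (h' : Killed z') :
    Killed (z + z') := by
  classical
  obtain ⟨P, E, h⟩ := h
  obtain ⟨P', E', h'⟩ := h'
  refine ⟨P ∪ P', E ∪ E', fun Q hQ F hF c' g x => ?_⟩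
  rw [map_add, h Q (Finset.union_subset_left hQ) F (Finset.union_subset_left hF) g x,
    h' Q (Finset.union_subset_right hQ) F (Finset.union_subset_right hF) g x, add_zero]

lemma sh_res {c c' : C} {d : D} (h : c' ⟶ c) (ψ : c ⟶ f.fn.obj d) (r : O_D.obj.obj (op d)) :
    (O_C.obj.map h.op).hom (sh f ψ r) = sh f (h ≫ ψ) r := by
  simp only [sh, op_comp, Functor.map_comp]
  rfl

lemma sh_map {c : C} {d d' : D} (ψ : c ⟶ f.fn.obj d') (a : d' ⟶ d) (r : O_D.obj.obj (op d)) :
    sh f (ψ ≫ f.fn.map a) r = sh f ψ ((O_D.obj.map a.op).hom r) := by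
  simp only [sh, op_comp, Functor.map_comp]
  exact congrArg (O_C.obj.map ψ.op).hom
    (congrArg (fun q => q.hom r) (f.sharp.hom.naturality a.op)).symm

lemma killed_smul_rel {y : (Fr f M).obj (op c)} (hy : IsRel f M (op c) y)
    (r : O_C.obj.obj (op c)) : Killed (r • y) := by
  classical
  cases hy with
  | @add d ψ m m' =>
    refine ⟨{⟨d, ψ⟩}, ∅, fun Q hQ F _ c' g x => ?_⟩
    have hp : (⟨d, ψ⟩ : Cone.Pr f.fn c) ∈ Q := hQ (Finset.mem_singleton_self _)
    rw [smul_sub, smul_sub, map_sub, map_sub, phi_smul_b x ψ hp, phi_smul_b x ψ hp,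
      phi_smul_b x ψ hp, map_add, TensorProduct.add_tmul]
    abel
  | @smul d ψ s m =>
    refine ⟨{⟨d, ψ⟩}, ∅, fun Q hQ F _ c' g x => ?_⟩
    have hp : (⟨d, ψ⟩ : Cone.Pr f.fn c) ∈ Q := hQ (Finset.mem_singleton_self _)
    rw [smul_sub, smul_smul, map_sub, phi_smul_b x ψ hp, phi_smul_b x ψ hp, sub_eq_zero, res_smul,
      TensorProduct.smul_tmul, ← toOb_mul, ← sh_map, x.hπ _ hp, ← sh_res,
      (O_C.obj.map g.op).hom.map_mul, mul_comm (G := O_C.obj.obj (op c'))]
  | @map d d' ψ a m =>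
    let p' : Cone.Pr f.fn c := ⟨d', ψ⟩
    let p : Cone.Pr f.fn c := ⟨d, ψ ≫ f.fn.map a⟩
    refine ⟨{p', p}, {⟨p', p, a, rfl⟩}, fun Q hQ F hF c' g x => ?_⟩
    have hp' : p' ∈ Q := hQ (by simp)
    have hp : p ∈ Q := hQ (by simp)
    rw [smul_sub, map_sub, phi_smul_b x ψ hp', phi_smul_b x _ hp, sub_eq_zero,
      ← x.hE ⟨p', p, a, rfl⟩ (hF (Finset.mem_singleton_self _)) hp' hp, op_comp, res_comp]

/-- Combinations of relations are killed. -/
theorem killed_of_mem_span {z : (Fr f M).obj (op c)}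
    (hz : z ∈ Submodule.span (O_C.obj.obj (op c)) {y | IsRel f M (op c) y}) : Killed z := by
  suffices H : ∀ r : O_C.obj.obj (op c), Killed (r • z) by simpa using H 1
  induction hz using Submodule.span_induction with
  | mem y hy => exact killed_smul_rel hy
  | zero =>
    intro r
    rw [smul_zero]
    exact killed_zero
  | add y y' _ _ h h' =>
    intro r
    rw [smul_add]
    exact killed_add (h r) (h' r)
  | smul a y _ h =>
    intro r
    rw [smul_smul]
    exact h _

end Groth.Agent.Lib.RMorLocal.Kill
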