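import Groth.Agent.Lib.RMorLocal.TensorMap

/-!
# `f^*(M ⊗ N) ≅ f^*M ⊗ f^*N`
-/

set_option linter.style.haveILetI false

universe u


open CategoryTheory Limits Opposite MonoidalCategory TensorProduct

namespace Groth.Agent.Lib.RMorLocal.TensorIso

open Groth.Agent.Lib.ModTensor.Local Groth.Agent.Lib.RMorLocal.Pull Groth.Agent.Lib.RMorLocal.Kill
  Groth.Agent.Lib.ModTensor.Monoidal Groth.Agent.Lib.RMorLocal.TensorMap

variable {C D : Type u} [SmallCategory C] [SmallCategory D] {J : GrothendieckTopology C}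
  {K : GrothendieckTopology D} {O_C : Sheaf J CommRingCat.{u}} {O_D : Sheaf K CommRingCat.{u}}
  {f : _root_.ModSite.RMor O_C O_D} {M N : _root_.ModSite.Mod O_D}

variable (f M N) in
/-- The sheafified tensor product downstairs. -/
noncomputable abbrev TD : _root_.ModSite.Mod O_D := (L.{u, u, u} O_D).obj (DT M N)

lemma st_add_left {d : D} (m m' : _root_.ModSite.sect M d) (n : _root_.ModSite.sect N d) :
    st (m + m') n = st m n + st m' n :=
  (congrArg ((ηD M N).app (op d)) (TensorProduct.add_tmul (R := O_D.obj.obj (op d)) m m' n)).trans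
    (map_add ((ηD M N).app (op d)).hom _ _)

lemma st_add_right {d : D} (m : _root_.ModSite.sect M d) (n n' : _root_.ModSite.sect N d) :
    st m (n + n') = st m n + st m n' :=
  (congrArg ((ηD M N).app (op d)) (TensorProduct.tmul_add (R := O_D.obj.obj (op d)) m n n')).trans
    (map_add ((ηD M N).app (op d)).hom _ _)

lemma st_smul_left {d : D} (r : O_D.obj.obj (op d)) (m : _root_.ModSite.sect M d)
    (n : _root_.ModSite.sect N d) : st (r • m) n = r • st m n :=
  (congrArg ((ηD M N).app (op d)) (TensorProduct.smul_tmul' (R := O_D.obj.obj (op d)) r m n).symm).trans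
    (((ηD M N).app (op d)).hom.map_smul r _)

lemma st_smul_right {d : D} (r : O_D.obj.obj (op d)) (m : _root_.ModSite.sect M d)
    (n : _root_.ModSite.sect N d) : st m (r • n) = r • st m n :=
  (congrArg ((ηD M N).app (op d)) (TensorProduct.tmul_smul (R := O_D.obj.obj (op d)) r m n)).trans
    (((ηD M N).app (op d)).hom.map_smul r _)

lemma res_st {d d' : D} (g : d' ⟶ d) (m : _root_.ModSite.sect M d)
    (n : _root_.ModSite.sect N d) :
    res (R := O_D.obj) (TD M N).val g.op (st m n) =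
      st (res (R := O_D.obj) M.val g.op m) (res (R := O_D.obj) N.val g.op n) :=
  (res_app (R := O_D.obj) (ηD M N) g.op _).symm

section Bil

variable {c : C} {d : D} (ψ : c ⟶ f.fn.obj d)

/-- Scalars on `Ob`. -/
noncomputable def unOb : Ob f ψ →+ O_C.obj.obj (op c) := AddMonoidHom.id _

lemma unOb_smul (r : O_D.obj.obj (op d)) (a : Ob f ψ) :
    unOb ψ (r • a) = sh f ψ r * unOb ψ a := rfl

lemma unOb_toOb (a : O_C.obj.obj (op c)) : unOb ψ (toOb f ψ a) = a := rfl

/-- The pairing against a fixed pure tensor. -/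
noncomputable def bil₁ (m : _root_.ModSite.sect M d) (a : Ob f ψ) :
    Tgt f N ψ →+ (PMod f (TD M N)).obj (op c) :=
  TensorProduct.liftAddHom
    (AddMonoidHom.mk'
      (fun n => AddMonoidHom.mk'
        (fun b => (unOb ψ a * unOb ψ b) • pl f (TD M N) ψ (st m n))
        (fun b b' => by rw [map_add, mul_add, add_smul]))
      (fun n n' => by
        refine AddMonoidHom.ext fun b => ?_
        simp only [AddMonoidHom.mk'_apply, AddMonoidHom.add_apply, st_add_right, pl_add, smul_add]))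
    (fun r n b => by
      simp only [AddMonoidHom.mk'_apply, st_smul_right, pl_smul, unOb_smul, smul_smul]
      ring_nf)

lemma bil₁_tmul (m : _root_.ModSite.sect M d) (a : Ob f ψ) (n : _root_.ModSite.sect N d)
    (b : Ob f ψ) : bil₁ ψ m a (n ⊗ₜ[O_D.obj.obj (op d)] b) =
      (unOb ψ a * unOb ψ b) • pl f (TD M N) ψ (st m n) := rfl

variable (N) in
/-- The pairing against `m ⊗ -`. -/
noncomputable def bilM (m : _root_.ModSite.sect M d) :
    Ob f ψ →+ (Tgt f N ψ →+ (PMod f (TD M N)).obj (op c)) :=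
  AddMonoidHom.mk' (fun a => bil₁ ψ m a) (fun a a' => by
    refine AddMonoidHom.ext fun v => ?_
    induction v using TensorProduct.induction_on with
    | zero => simp
    | tmul n b => simp only [AddMonoidHom.add_apply, bil₁_tmul, map_add, add_mul, add_smul]
    | add v v' hv hv' => rw [map_add, map_add, hv, hv'])

lemma bilM_add (m m' : _root_.ModSite.sect M d) :
    bilM N ψ (m + m') = bilM N ψ m + bilM N ψ m' := by
  refine AddMonoidHom.ext fun a => AddMonoidHom.ext fun v => ?_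
  change bil₁ ψ (m + m') a v = bil₁ ψ m a v + bil₁ ψ m' a v
  induction v using TensorProduct.induction_on with
  | zero => simp
  | tmul n b => simp only [bil₁_tmul, st_add_left, pl_add, smul_add]
  | add v v' hv hv' => simp only [map_add, hv, hv']; abel

lemma bilM_smul (r : O_D.obj.obj (op d)) (m : _root_.ModSite.sect M d) (a : Ob f ψ) :
    bilM N ψ (r • m) a = bilM N ψ m (r • a) := by
  refine AddMonoidHom.ext fun v => ?_
  change bil₁ ψ (r • m) a v = bil₁ ψ m (r • a) v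
  induction v using TensorProduct.induction_on with
  | zero => simp
  | tmul n b =>
    simp only [bil₁_tmul, st_smul_left, pl_smul, unOb_smul, smul_smul]
    ring_nf
  | add v v' hv hv' => simp only [map_add, hv, hv']

variable (M N) in
/-- The pairing. -/
noncomputable def bil : Tgt f M ψ →+ Tgt f N ψ →+ (PMod f (TD M N)).obj (op c) :=
  TensorProduct.liftAddHom (AddMonoidHom.mk' (bilM N ψ) (bilM_add ψ)) (bilM_smul ψ)

variable (M) in
/-- Multiplication by a scalar on `Tgt`. -/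
noncomputable def mu (s : O_C.obj.obj (op c)) : Tgt f M ψ →+ Tgt f M ψ :=
  TensorProduct.liftAddHom
    (AddMonoidHom.mk'
      (fun m => AddMonoidHom.mk'
        (fun a => (m ⊗ₜ[O_D.obj.obj (op d)] toOb f ψ (s * unOb ψ a) : Tgt f M ψ))
        (fun a a' => by rw [map_add, mul_add, map_add, TensorProduct.tmul_add]))
      (fun m m' => by
        refine AddMonoidHom.ext fun a => ?_
        exact TensorProduct.add_tmul _ _ _))
    (fun r m a => by
      refine (TensorProduct.smul_tmul r m _).trans ?_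
      refine congrArg (fun x : Ob f ψ => (m ⊗ₜ[O_D.obj.obj (op d)] x : Tgt f M ψ)) ?_
      rw [← toOb_mul, unOb_smul, mul_left_comm])

lemma mu_tmul (s : O_C.obj.obj (op c)) (m : _root_.ModSite.sect M d) (a : Ob f ψ) :
    mu M ψ s (m ⊗ₜ[O_D.obj.obj (op d)] a) = m ⊗ₜ[O_D.obj.obj (op d)] toOb f ψ (s * unOb ψ a) :=
  rfl

lemma bil_mu (s : O_C.obj.obj (op c)) (u : Tgt f M ψ) (v : Tgt f N ψ) :
    bil M N ψ (mu M ψ s u) v = bil M N ψ u (mu N ψ s v) := by
  induction u using TensorProduct.induction_on with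
  | zero => simp
  | add u u' hu hu' => simp only [map_add, AddMonoidHom.add_apply, hu, hu']
  | tmul m a =>
    induction v using TensorProduct.induction_on with
    | zero => simp
    | add v v' hv hv' => simp only [map_add, hv, hv']
    | tmul n b =>
      change bil₁ ψ m (toOb f ψ (s * unOb ψ a)) (n ⊗ₜ[O_D.obj.obj (op d)] b) =
        bil₁ ψ m a (n ⊗ₜ[O_D.obj.obj (op d)] toOb f ψ (s * unOb ψ b))
      rw [bil₁_tmul, bil₁_tmul, unOb_toOb, unOb_toOb, mul_assoc, mul_left_comm]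

end Bil

variable {c c' : C} {g : c' ⟶ c} {P : Finset (Cone.Pr f.fn c)} {E : Finset (Cone.Eqn f.fn c)}

lemma phi_smul (x : Cone.Dat f.fn g P E) (r : O_C.obj.obj (op c)) (z : (Fr f M).obj (op c)) :
    phi x (r • z) = mu M x.ψ ((O_C.obj.map g.op).hom r) (phi x z) := by
  classical
  obtain ⟨k, y, β, hy⟩ := Flat.exists_common_support (fun _ : Fin 1 => z)
  rw [show z = ∑ i, β 0 i • FlatCrit.Iff.bas (O := O_C) (y i) from hy 0, Finset.smul_sum,
    map_sum, map_sum, map_sum]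
  refine Finset.sum_congr rfl fun i _ => ?_
  rw [smul_smul]
  by_cases h : (y i).1 ∈ P
  · refine (phi_smul_b x (y i).1.2 h (y i).2 _).trans ?_
    refine Eq.trans ?_ (congrArg (mu M x.ψ _) (phi_smul_b x (y i).1.2 h (y i).2 _)).symm
    rw [mu_tmul, unOb_toOb, map_mul]
  · have hz : ∀ t : O_C.obj.obj (op c), phi x (t • FlatCrit.Iff.bas (O := O_C) (y i)) = 0 := fun t => by
      have e : (t • FlatCrit.Iff.bas (O := O_C) (y i) : (Fr f M).obj (op c)) =
          (Finsupp.single (y i) t : (Sym f M).obj (op c) →₀ O_C.obj.obj (op c)) :=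
        ((Finsupp.smul_single t _ (1 : O_C.obj.obj (op c))).trans
          (congrArg (Finsupp.single _) (mul_one t)))
      refine (congrArg (phi x) e).trans ?_
      refine (Finsupp.liftAddHom_apply_single _ _ t).trans ?_
      rw [dif_neg h]
      rfl
    rw [hz, hz, map_zero]

/-- The final algebra over a cone. -/
theorem vanish {n L k : ℕ} (x₁ : Fin n → Σ p : Cone.Pr f.fn c,
      _root_.ModSite.sect M p.1 × _root_.ModSite.sect N p.1)
    (α : Fin n → O_C.obj.obj (op c)) (A : Fin n ⊕ Fin L → Fin k → O_C.obj.obj (op c))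
    (Y : Fin k → (Fr f M).obj (op c)) (Cc : Fin L → (Fr f N).obj (op c))
    (hP : ∀ i, (x₁ i).1 ∈ P)
    (hM : ∀ i : Fin n ⊕ Fin L, ∀ x : Cone.Dat f.fn g P E, phi x
      (Sum.elim (fun i => α i • b f M (c := op c) (x₁ i).1.2 (x₁ i).2.1) (fun _ => 0) i -
        ∑ j, A i j • Y j) = 0)
    (hN : ∀ j, ∀ x : Cone.Dat f.fn g P E, phi x
      (∑ i, A i j • Sum.elim (fun i => b f N (c := op c) (x₁ i).1.2 (x₁ i).2.2) Cc i) = 0)
    (x : Cone.Dat f.fn g P E) :
    res (PMod f (TD M N)) g.op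
      (∑ i, α i • pl f (TD M N) (x₁ i).1.2 (st (x₁ i).2.1 (x₁ i).2.2)) = 0 := by
  let Af : Fin n ⊕ Fin L → (Fr f M).obj (op c) :=
    Sum.elim (fun i => α i • b f M (c := op c) (x₁ i).1.2 (x₁ i).2.1) (fun _ => 0)
  let Bf : Fin n ⊕ Fin L → (Fr f N).obj (op c) :=
    Sum.elim (fun i => b f N (c := op c) (x₁ i).1.2 (x₁ i).2.2) Cc
  have h₁ : ∑ i, bil M N x.ψ (phi x (Af i)) (phi x (Bf i)) = 0 := by
    have e : ∀ i, phi x (Af i) = ∑ j, mu M x.ψ ((O_C.obj.map g.op).hom (A i j)) (phi x (Y j)) :=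
      fun i => by
        have h₀ := hM i x
        rw [map_sub, sub_eq_zero, map_sum] at h₀
        simpa only [phi_smul] using h₀
    simp only [e, map_sum, AddMonoidHom.finset_sum_apply, bil_mu]
    rw [Finset.sum_comm]
    refine Finset.sum_eq_zero fun j _ => ?_
    rw [← map_sum]
    have h₀ := hN j x
    rw [map_sum] at h₀
    simp only [phi_smul] at h₀
    rw [h₀, map_zero]
  rw [Fintype.sum_sum_type] at h₁
  simp only [Af, Sum.elim_inl, Sum.elim_inr, map_zero, AddMonoidHom.zero_apply,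
    Finset.sum_const_zero, add_zero] at h₁
  rw [map_sum]
  refine Eq.trans (Finset.sum_congr rfl fun i _ => ?_) h₁
  rw [res_smul, res_pl, ← x.hπ _ (hP i), ← pl_res, res_st]
  have e₁ : phi x (b f N (c := op c) (x₁ i).1.2 (x₁ i).2.2) = _ :=
    (congrArg (phi x) (one_smul (O_C.obj.obj (op c)) _).symm).trans
      (phi_smul_b x (x₁ i).1.2 (hP i) (x₁ i).2.2 1)
  simp only [Bf, Sum.elim_inl]
  rw [e₁, phi_smul_b x (x₁ i).1.2 (hP i)]
  refine Eq.trans ?_ (bil₁_tmul x.ψ _ _ _ _).symm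
  rw [unOb_toOb, unOb_toOb, map_one, mul_one]

/-- Finitely many sheafified tensors are locally sums of pure tensors. -/
lemma exists_cover_split {c : C} {d : D} (ψ : c ⟶ f.fn.obj d) (Z : _root_.ModSite.sect (TD M N) d) :
    ∃ S ∈ J c, ∀ ⦃c' : C⦄ (g : c' ⟶ c), S g → ∃ (d' : D) (ψ' : c' ⟶ f.fn.obj d') (k : ℕ)
      (m : Fin k → _root_.ModSite.sect M d') (n : Fin k → _root_.ModSite.sect N d'),
      res (PMod f (TD M N)) g.op (pl f (TD M N) ψ Z) = ∑ i, pl f (TD M N) ψ' (st (m i) (n i)) := by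
  obtain ⟨-, hη⟩ := (isIso_map_iff.{u, u, u} (ηD M N)).1 inferInstance
  obtain ⟨T, hT, hlift⟩ := exists_cover_lift K (R := O_D.obj) (ηD M N) (X := op d)
    (fun _ : Fin 1 => Z)
  obtain ⟨S, hS, hl⟩ := Basic.exists_cover_lift (J := J) K f.fn ψ hT
  refine ⟨S, hS, fun c' g hg => ?_⟩
  obtain ⟨d', h, ψ', hh, hψ⟩ := hl g hg
  obtain ⟨z, hz⟩ := hlift h hh
  obtain ⟨k, m, n, hmn⟩ := exists_sum_tm (R := O_D.obj) (X := op d') (z 0)
  refine ⟨d', ψ', k, m, n, ?_⟩
  rw [res_pl, ← hψ, ← pl_res]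
  refine (congrArg (pl f (TD M N) ψ') ((hz 0).symm.trans ((congrArg _ hmn).trans
    (map_sum ((ηD M N).app (op d')).hom _ _)))).trans ?_
  exact map_sum (AddMonoidHom.mk' (pl f (TD M N) ψ') (pl_add f (TD M N) ψ')) _ _

variable (f M N)

theorem isLocallyInjective_δP : PresheafOfModules.IsLocallyInjective J (δP f M N) := by
  classical
  obtain ⟨hη, -⟩ := (isIso_map_iff.{u, u, u} (ηC f M N)).1 inferInstance
  refine ⟨fun {U} z z' hzz => ?_⟩
  suffices H : ∀ w : (PMod f (TD M N)).obj U, (δP f M N).app U w = 0 →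
      ∃ T ∈ J U.unop, ∀ ⦃Y : C⦄ (g : Y ⟶ U.unop), T g → res (PMod f (TD M N)) g.op w = 0 by
    obtain ⟨T, hT, h0⟩ := H (show (PMod f (TD M N)).obj U from (z : (PMod f (TD M N)).obj U) - z')
      ((map_sub ((δP f M N).app U).hom _ _).trans (sub_eq_zero.2 hzz))
    refine J.superset_covering (fun Y g hg => ?_) hT
    exact sub_eq_zero.1 ((map_sub (res (PMod f (TD M N)) g.op) _ _).symm.trans (h0 g hg))
  intro w hw
  let Good : Sieve U.unop :=
    Presheaf.equalizerSieve (F := (PMod f (TD M N)).presheaf) w (0 : (PMod f (TD M N)).obj U)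
  refine ⟨Good, ?_, fun Y g hg =>
    (show res (PMod f (TD M N)) g.op _ = res (PMod f (TD M N)) g.op 0 from hg).trans (map_zero _)⟩
  -- symbols
  obtain ⟨S₁, hS₁, hlift₁⟩ := exists_cover_eps f (TD M N) (c := U.unop) (fun _ : Fin 1 => w)
  refine J.transitive hS₁ _ (fun c₁ g₁ hg₁ => ?_)
  obtain ⟨z₁, hz₁⟩ := hlift₁ g₁ hg₁
  obtain ⟨N₁, y₁, α₁, hα₁⟩ := Flat.exists_common_support z₁
  have hw₁ : res (PMod f (TD M N)) g₁.op w =
      ∑ i, α₁ 0 i • pl f (TD M N) (y₁ i).1.2 (y₁ i).2 := by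
    refine (hz₁ 0).symm.trans ((congrArg _ (hα₁ 0)).trans ?_)
    rw [map_sum]
    exact Finset.sum_congr rfl fun i _ =>
      (((eps f (TD M N)).app (op c₁)).hom.map_smul _ _).trans (congrArg (_ • ·) (eps_b f _ _ _))
  -- pure tensors
  obtain ⟨S₂, hS₂, hlift₂⟩ := exists_cover_forall (ι := Fin N₁)
    fun i => exists_cover_split (y₁ i).1.2 (y₁ i).2
  refine J.transitive hS₂ _ (fun c₂ g₂ hg₂ => ?_)
  choose d₂ ψ₂ k₂ m₂ n₂ hsplit using fun i => hlift₂ g₂ hg₂ i
  let e := Fintype.equivFin (Σ i : Fin N₁, Fin (k₂ i))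
  let x₁ : Fin (Fintype.card (Σ i : Fin N₁, Fin (k₂ i))) → Σ p : Cone.Pr f.fn c₂,
      _root_.ModSite.sect M p.1 × _root_.ModSite.sect N p.1 := fun v =>
    ⟨⟨d₂ (e.symm v).1, ψ₂ (e.symm v).1⟩, m₂ _ (e.symm v).2, n₂ _ (e.symm v).2⟩
  let α : Fin (Fintype.card (Σ i : Fin N₁, Fin (k₂ i))) → O_C.obj.obj (op c₂) := fun v =>
    (O_C.obj.map g₂.op).hom (α₁ 0 (e.symm v).1)
  let w₂ : (PMod f (TD M N)).obj (op c₂) :=
    ∑ v, α v • pl f (TD M N) (x₁ v).1.2 (st (x₁ v).2.1 (x₁ v).2.2)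
  have hw₂ : res (PMod f (TD M N)) g₂.op (res (PMod f (TD M N)) g₁.op w) = w₂ := by
    rw [hw₁, map_sum]
    simp only [res_smul, hsplit, Finset.smul_sum, w₂]
    exact (Fintype.sum_sigma (fun s : Σ i : Fin N₁, Fin (k₂ i) =>
      (O_C.obj.map g₂.op).hom (α₁ 0 s.1) • pl f (TD M N) (ψ₂ s.1) (st (m₂ s.1 s.2) (n₂ s.1 s.2)))).symm.trans
      (e.symm.sum_comp (fun s : Σ i : Fin N₁, Fin (k₂ i) =>
      (O_C.obj.map g₂.op).hom (α₁ 0 s.1) • pl f (TD M N) (ψ₂ s.1) (st (m₂ s.1 s.2) (n₂ s.1 s.2)))).symm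
  let ap := fun v => α v • pl f M (x₁ v).1.2 (x₁ v).2.1
  let bp := fun v => pl f N (x₁ v).1.2 (x₁ v).2.2
  have hδ : (ηC f M N).app (op c₂) (∑ v, tm (PMod f M) (PMod f N) (ap v) (bp v)) = 0 := by
    have h₀ : (δP f M N).app (op c₂) w₂ = 0 := by
      rw [← hw₂]
      refine (res_app (R := O_C.obj) (δP f M N) g₂.op _).trans ?_
      refine (congrArg _ ((res_app (R := O_C.obj) (δP f M N) g₁.op w).trans
        ((congrArg _ hw).trans (map_zero _)))).trans (map_zero _)
    refine (map_sum ((ηC f M N).app (op c₂)).hom _ _).trans ?_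
    refine Eq.trans ?_ h₀
    refine Eq.trans ?_ (map_sum ((δP f M N).app (op c₂)).hom _ _).symm
    refine Finset.sum_congr rfl fun v _ => ?_
    refine Eq.trans ?_ (((δP f M N).app (op c₂)).hom.map_smul _ _).symm
    refine Eq.trans ?_ (congrArg (α v • ·) (δP_pl (x₁ v).1.2 (x₁ v).2.1 (x₁ v).2.2)).symm
    exact (congrArg ((ηC f M N).app (op c₂)) (tm_smul_left _ _ _)).trans
      (((ηC f M N).app (op c₂)).hom.map_smul _ _)
  obtain ⟨S₃, hS₃, hzero⟩ := exists_cover_zero J (R := O_C.obj) (ηC f M N) (X := op c₂)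
    (ι := Fin 1) (fun _ => ∑ v, tm (PMod f M) (PMod f N) (ap v) (bp v)) (fun _ => hδ)
  refine J.transitive hS₃ _ (fun c₃ g₃ hg₃ => ?_)
  let a₃ := fun v => res (PMod f M) g₃.op (ap v)
  let b₃ := fun v => res (PMod f N) g₃.op (bp v)
  have h₃ : ∑ v, b₃ v ⊗ₜ[O_C.obj.obj (op c₃)] a₃ v = 0 := by
    apply (TensorProduct.comm (O_C.obj.obj (op c₃)) ((PMod f N).obj (op c₃))
      ((PMod f M).obj (op c₃))).injective
    rw [map_zero, map_sum]
    refine Eq.trans ?_ (hzero g₃ hg₃ 0)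
    refine Eq.trans ?_ (map_sum (res (PT f M N) g₃.op)
      (fun v => tm (PMod f M) (PMod f N) (ap v) (bp v)) Finset.univ).symm
    rfl
  obtain ⟨L, cc, k, A, y, hy, hA⟩ :=
    exists_vanishesTrivially_sumElim (R := O_C.obj.obj (op c₃)) b₃ a₃ h₃
  obtain ⟨S₄, hS₄, hy₄⟩ := exists_cover_eps f M y
  obtain ⟨S₅, hS₅, hc₅⟩ := exists_cover_eps f N cc
  refine J.transitive (J.intersection_covering hS₄ hS₅) _ (fun c₄ g₄ hg₄ => ?_)
  obtain ⟨Y, hY⟩ := hy₄ g₄ hg₄.1
  obtain ⟨Cc, hCc⟩ := hc₅ g₄ hg₄.2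
  let G₄ : c₄ ⟶ c₂ := g₄ ≫ g₃
  let x₄ : Fin (Fintype.card (Σ i : Fin N₁, Fin (k₂ i))) → Σ p : Cone.Pr f.fn c₄,
      _root_.ModSite.sect M p.1 × _root_.ModSite.sect N p.1 := fun v =>
    ⟨⟨(x₁ v).1.1, G₄ ≫ (x₁ v).1.2⟩, (x₁ v).2⟩
  let α₄ := fun v => (O_C.obj.map G₄.op).hom (α v)
  let A₄ := fun i j => (O_C.obj.map g₄.op).hom (A i j)
  let ZM : Fin (Fintype.card (Σ i : Fin N₁, Fin (k₂ i))) ⊕ Fin L → (Fr f M).obj (op c₄) := fun i =>
    Sum.elim (fun v => α₄ v • b f M (c := op c₄) (x₄ v).1.2 (x₄ v).2.1) (fun _ => 0) i -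
      ∑ j, A₄ i j • Y j
  let WN : Fin k → (Fr f N).obj (op c₄) := fun j =>
    ∑ i, A₄ i j • Sum.elim (fun v => b f N (c := op c₄) (x₄ v).1.2 (x₄ v).2.2) Cc i
  have hZM : ∀ i, (eps f M).app (op c₄) (ZM i) = 0 := fun i => by
    refine (map_sub ((eps f M).app (op c₄)).hom _ _).trans (sub_eq_zero.2 ?_)
    refine Eq.trans ?_ (Eq.trans (congrArg (res (PMod f M) g₄.op) (hy i)) ?_)
    · rcases i with v | v
      · refine (((eps f M).app (op c₄)).hom.map_smul _ _).trans ?_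
        refine (congrArg (α₄ v • ·) (eps_b f M (c := op c₄) (x₄ v).1.2 (x₄ v).2.1)).trans ?_
        refine Eq.trans ?_ ((congrArg (res (PMod f M) g₄.op) (res_smul _ g₃.op _ _)).trans
          (res_smul _ g₄.op _ _)).symm
        refine congrArg₂ (· • ·) ?_ ?_
        · simp only [α₄, G₄, op_comp, FlatCrit.Rel.map_comp_apply]
        · rw [res_pl, res_pl, ← Category.assoc]
      · exact (map_zero _).trans (map_zero _).symm
    · rw [map_sum]
      refine Eq.trans ?_ (map_sum ((eps f M).app (op c₄)).hom _ _).symm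
      refine Finset.sum_congr rfl fun j _ => ?_
      rw [res_smul]
      exact (congrArg (A₄ i j • ·) (hY j).symm).trans
        (((eps f M).app (op c₄)).hom.map_smul _ _).symm
  have hWN : ∀ j, (eps f N).app (op c₄) (WN j) = 0 := fun j => by
    refine Eq.trans ?_ ((congrArg (res (PMod f N) g₄.op) (hA j)).trans (map_zero _))
    refine Eq.trans ?_ (map_sum (res (PMod f N) g₄.op) _ _).symm
    refine (map_sum ((eps f N).app (op c₄)).hom _ _).trans ?_
    refine Finset.sum_congr rfl fun i _ => ?_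
    refine (((eps f N).app (op c₄)).hom.map_smul _ _).trans ?_
    refine Eq.trans ?_ (res_smul _ g₄.op _ _).symm
    refine congrArg (A₄ i j • ·) ?_
    rcases i with v | v
    · refine (eps_b f N (c := op c₄) (x₄ v).1.2 (x₄ v).2.2).trans ?_
      change pl f N ((g₄ ≫ g₃) ≫ (x₁ v).1.2) (x₁ v).2.2 =
        res (PMod f N) g₄.op (res (PMod f N) g₃.op (pl f N (x₁ v).1.2 (x₁ v).2.2))
      rw [res_pl, res_pl, Category.assoc]
    · exact hCc v
  obtain ⟨S₆, hS₆, hspanM⟩ := exists_cover_forall (ι := _ ⊕ Fin L) fun i => exists_cover_span f M (hZM i)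
  obtain ⟨S₇, hS₇, hspanN⟩ := exists_cover_forall (ι := Fin k) fun j => exists_cover_span f N (hWN j)
  refine J.transitive (J.intersection_covering hS₆ hS₇) _ (fun c₅ g₅ hg₅ => ?_)
  choose PM' EM hkM using fun i => killed_of_mem_span (hspanM g₅ hg₅.1 i)
  choose PN' EN hkN using fun j => killed_of_mem_span (hspanN g₅ hg₅.2 j)
  let x₅ : Fin (Fintype.card (Σ i : Fin N₁, Fin (k₂ i))) → Σ p : Cone.Pr f.fn c₅,
      _root_.ModSite.sect M p.1 × _root_.ModSite.sect N p.1 := fun v =>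
    ⟨⟨(x₄ v).1.1, g₅ ≫ (x₄ v).1.2⟩, (x₄ v).2⟩
  let P : Finset (Cone.Pr f.fn c₅) := (Finset.univ.biUnion PM' ∪ Finset.univ.biUnion PN') ∪
    (Finset.univ (α := Fin (Fintype.card (Σ i : Fin N₁, Fin (k₂ i))))).image (fun v => (x₅ v).1)
  let E : Finset (Cone.Eqn f.fn c₅) := Finset.univ.biUnion EM ∪ Finset.univ.biUnion EN
  have hres : res (PMod f (TD M N)) ((g₅ ≫ g₄ ≫ g₃) ≫ g₂).op (res (PMod f (TD M N)) g₁.op w) =
      ∑ v, (O_C.obj.map g₅.op).hom (α₄ v) •
        pl f (TD M N) (x₅ v).1.2 (st (x₅ v).2.1 (x₅ v).2.2) := by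
    rw [op_comp, res_comp, hw₂, op_comp, res_comp]
    simp only [w₂, map_sum, res_smul, res_pl]
    refine Finset.sum_congr rfl fun v _ => ?_
    rfl
  rcases Nat.eq_zero_or_pos (Fintype.card (Σ i : Fin N₁, Fin (k₂ i))) with h0 | hpos
  · refine J.superset_covering (fun c₆ g₆ _ => ?_) (J.top_mem c₅)
    change res (PMod f (TD M N)) (((((g₆ ≫ g₅) ≫ g₄) ≫ g₃) ≫ g₂) ≫ g₁).op w =
      res (PMod f (TD M N)) (((((g₆ ≫ g₅) ≫ g₄) ≫ g₃) ≫ g₂) ≫ g₁).op 0
    rw [map_zero, op_comp, res_comp]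
    simp only [Category.assoc] at hres ⊢
    rw [op_comp, res_comp, hres]
    haveI : IsEmpty (Fin (Fintype.card (Σ i : Fin N₁, Fin (k₂ i)))) := by rw [h0]; infer_instance
    rw [Fintype.sum_empty, map_zero]
  have hP : P.Nonempty :=
    ⟨(x₅ ⟨0, hpos⟩).1, Finset.mem_union_right _ (Finset.mem_image_of_mem _ (Finset.mem_univ _))⟩
  refine J.superset_covering (fun c₆ g₆ hg₆ => ?_) (Cone.coneSieve_mem (J := J) K f.fn P hP E)
  obtain ⟨X⟩ := hg₆
  change res (PMod f (TD M N)) (((((g₆ ≫ g₅) ≫ g₄) ≫ g₃) ≫ g₂) ≫ g₁).op w =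
    res (PMod f (TD M N)) (((((g₆ ≫ g₅) ≫ g₄) ≫ g₃) ≫ g₂) ≫ g₁).op 0
  rw [map_zero, op_comp, res_comp]
  simp only [Category.assoc] at hres ⊢
  rw [op_comp, res_comp, hres]
  refine vanish x₅ (fun v => (O_C.obj.map g₅.op).hom (α₄ v))
    (fun i j => (O_C.obj.map g₅.op).hom (A₄ i j)) (fun j => res (Fr f M) g₅.op (Y j))
    (fun i => res (Fr f N) g₅.op (Cc i))
    (fun v => Finset.mem_union_right _ (Finset.mem_image.2 ⟨v, Finset.mem_univ _, rfl⟩))
    (fun i X' => ?_) (fun j X' => ?_) X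
  · refine Eq.trans (congrArg (phi X') ?_) (hkM i P
      ((Finset.subset_biUnion_of_mem PM' (Finset.mem_univ i)).trans
        (Finset.subset_union_left.trans Finset.subset_union_left))
      E ((Finset.subset_biUnion_of_mem EM (Finset.mem_univ i)).trans Finset.subset_union_left) g₆ X')
    simp only [ZM, map_sub, map_sum, res_smul]
    rcases i with v | v
    · simp only [Sum.elim_inl, res_smul, res_b]
      rfl
    · simp only [Sum.elim_inr, map_zero]
  · refine Eq.trans (congrArg (phi X') ?_) (hkN j P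
      ((Finset.subset_biUnion_of_mem PN' (Finset.mem_univ j)).trans
        (Finset.subset_union_right.trans Finset.subset_union_left))
      E ((Finset.subset_biUnion_of_mem EN (Finset.mem_univ j)).trans Finset.subset_union_right) g₆ X')
    simp only [WN, map_sum, res_smul]
    refine Finset.sum_congr rfl fun i _ => ?_
    rcases i with v | v
    · simp only [Sum.elim_inl, res_b]
      rfl
    · rfl

/-- The comparison is an isomorphism. -/
noncomputable def pullTensorIso : f.pull.obj (TD M N) ≅ TT f M N :=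
  haveI := isLocallyInjective_δP f M N
  haveI := isLocallySurjective_δP f M N
  haveI : IsIso ((L.{u, u, u} O_C).map (δP f M N)) :=
    (isIso_map_iff.{u, u, u} (δP f M N)).2 ⟨inferInstance, inferInstance⟩
  haveI : IsIso (δ f M N) := by
    let e := counitIso.{u, u, u} O_C
    exact (MorphismProperty.isomorphisms _).arrow_mk_iso_iff
      (Arrow.isoMk (e.app _) (e.app _) (e.hom.naturality (δ f M N)).symm) |>.1
      (show IsIso ((L.{u, u, u} O_C).map (δP f M N)) from inferInstance)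
  asIso (δ f M N)

end Groth.Agent.Lib.RMorLocal.TensorIso
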