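import Groth.Agent.Lib.RMorLocal.Mono
import Groth.Agent.Lib.ModTensor.ModSite

/-!
# The comparison map `f^*(M ⊗ N) ⟶ f^*M ⊗ f^*N` and its local surjectivity
-/

set_option linter.style.haveILetI false

universe u

open CategoryTheory Limits Opposite MonoidalCategory TensorProduct

namespace Groth.Agent.Lib.RMorLocal.TensorMap

open Groth.Agent.Lib.ModTensor.Local Groth.Agent.Lib.RMorLocal.Pull Groth.Agent.Lib.RMorLocal.Kill
  Groth.Agent.Lib.ModTensor.Monoidal

variable {C D : Type u} [SmallCategory C] [SmallCategory D] {J : GrothendieckTopology C}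
  {K : GrothendieckTopology D} {O_C : Sheaf J CommRingCat.{u}} {O_D : Sheaf K CommRingCat.{u}}
  (f : _root_.ModSite.RMor O_C O_D) (M N : _root_.ModSite.Mod O_D)

/-- The presheaf tensor product upstairs. -/
noncomputable abbrev PT : PM O_C := PMod f M ⊗ PMod f N

/-- The presheaf tensor product downstairs. -/
noncomputable abbrev DT : PM O_D := (G.{u, u, u} O_D).obj M ⊗ (G.{u, u, u} O_D).obj N

/-- The target of the comparison. -/
noncomputable abbrev TT : _root_.ModSite.Mod O_C := (L.{u, u, u} O_C).obj (PT f M N)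

/-- Sheafification upstairs. -/
noncomputable abbrev ηC : PT f M N ⟶ (G.{u, u, u} O_C).obj (TT f M N) :=
  (adj.{u, u, u} O_C).unit.app (PT f M N)

/-- Sheafification downstairs. -/
noncomputable abbrev ηD : DT M N ⟶ (G.{u, u, u} O_D).obj ((L.{u, u, u} O_D).obj (DT M N)) :=
  (adj.{u, u, u} O_D).unit.app (DT M N)

lemma tm_add_left {E E' : PM O_C} {c : Cᵒᵖ} (a a' : E.obj c) (b : E'.obj c) :
    tm E E' (a + a') b = tm E E' a b + tm E E' a' b :=
  TensorProduct.add_tmul _ _ _

lemma tm_add_right {E E' : PM O_C} {c : Cᵒᵖ} (a : E.obj c) (b b' : E'.obj c) :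
    tm E E' a (b + b') = tm E E' a b + tm E E' a b' :=
  TensorProduct.tmul_add _ _ _

lemma tm_smul_left {E E' : PM O_C} {c : Cᵒᵖ} (r : O_C.obj.obj c) (a : E.obj c) (b : E'.obj c) :
    tm E E' (r • a) b = r • tm E E' a b :=
  (TensorProduct.smul_tmul' _ _ _).symm

lemma tm_smul_right {E E' : PM O_C} {c : Cᵒᵖ} (r : O_C.obj.obj c) (a : E.obj c) (b : E'.obj c) :
    tm E E' a (r • b) = r • tm E E' a b :=
  TensorProduct.tmul_smul _ _ _

/-- `m ⊗ n ↦ η(pm m ⊗ pm n)`. -/
noncomputable def δApp (d : D) :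
    (DT M N).obj (op d) →+ ((G.{u, u, u} O_C).obj (TT f M N)).obj (op (f.fn.obj d)) :=
  TensorProduct.liftAddHom
    (AddMonoidHom.mk'
      (fun m : _root_.ModSite.sect M d => AddMonoidHom.mk'
        (fun n : _root_.ModSite.sect N d =>
          (ηC f M N).app _ (tm (PMod f M) (PMod f N) (pm f M d m) (pm f N d n)))
        (fun n n' => (congrArg (fun x => (ηC f M N).app _
            (tm (PMod f M) (PMod f N) (pm f M d m) x)) (map_add (pm f N d) n n')).trans
          ((congrArg _ (tm_add_right _ _ _)).trans (map_add ((ηC f M N).app _).hom _ _))))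
      (fun m m' => by
        ext n
        exact (congrArg (fun x => (ηC f M N).app _
            (tm (PMod f M) (PMod f N) x (pm f N d n))) (map_add (pm f M d) m m')).trans
          ((congrArg _ (tm_add_left _ _ _)).trans (map_add ((ηC f M N).app _).hom _ _))))
    (fun r m n => by
      simp only [AddMonoidHom.mk'_apply]
      refine congrArg ((ηC f M N).app _) ?_
      refine (congrArg (fun a => tm (PMod f M) (PMod f N) a (pm f N d n)) (pm_smul f M r m)).trans ?_
      refine Eq.trans ?_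
        (congrArg (fun a => tm (PMod f M) (PMod f N) (pm f M d m) a) (pm_smul f N r n)).symm
      rw [tm_smul_left, tm_smul_right])

lemma δApp_tm {d : D} (m : _root_.ModSite.sect M d) (n : _root_.ModSite.sect N d) :
    δApp f M N d (tm ((G.{u, u, u} O_D).obj M) ((G.{u, u, u} O_D).obj N) m n) =
      (ηC f M N).app _ (tm (PMod f M) (PMod f N) (pm f M d m) (pm f N d n)) :=
  rfl

/-- The comparison on presheaves. -/
noncomputable def δPre : DT M N ⟶ (G.{u, u, u} O_D).obj (f.push.obj (TT f M N)) :=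
  PresheafOfModules.homMk
    { app := fun d => AddCommGrpCat.ofHom (δApp f M N d.unop)
      naturality := fun d d' g => by
        ext z
        obtain ⟨k, a, b, rfl⟩ := exists_sum_tm (R := O_D.obj) (X := d) z
        change δApp f M N d'.unop (res (R := O_D.obj) (DT M N) g (∑ i, tm _ _ (a i) (b i))) =
          res (R := O_C.obj) ((G.{u, u, u} O_C).obj (TT f M N)) (f.fn.map g.unop).op
            (δApp f M N d.unop (∑ i, tm _ _ (a i) (b i)))
        simp only [map_sum, res_tm]
        refine Finset.sum_congr rfl fun i _ => ?_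
        refine (δApp_tm f M N _ _).trans ?_
        refine (congrArg ((ηC f M N).app _) (congrArg₂ (tm (PMod f M) (PMod f N))
          (pm_res f M g.unop (a i)) (pm_res f N g.unop (b i)))).trans ?_
        exact (res_app (R := O_C.obj) (ηC f M N) (f.fn.map g.unop).op
          (tm (PMod f M) (PMod f N) (pm f M d.unop (a i)) (pm f N d.unop (b i)))) }
    (fun d r z => by
      obtain ⟨k, a, b, rfl⟩ := exists_sum_tm (R := O_D.obj) (X := d) z
      change δApp f M N d.unop (r • ∑ i, tm _ _ (a i) (b i)) =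
        shd f d.unop r • δApp f M N d.unop (∑ i, tm _ _ (a i) (b i))
      simp only [Finset.smul_sum, map_sum]
      refine Finset.sum_congr rfl fun i _ => ?_
      refine (congrArg (δApp f M N d.unop) (TensorProduct.smul_tmul' r (a i) (b i))).trans ?_
      refine (δApp_tm f M N _ _).trans ?_
      refine (congrArg ((ηC f M N).app _) ((congrArg
        (fun x => tm (PMod f M) (PMod f N) x (pm f N d.unop (b i))) (pm_smul f M r (a i))).trans
        (tm_smul_left _ _ _))).trans ?_
      exact ((ηC f M N).app _).hom.map_smul _ _)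

/-- The comparison `f^*(M ⊗ N) ⟶ f^*M ⊗ f^*N`. -/
noncomputable def δ : f.pull.obj ((L.{u, u, u} O_D).obj (DT M N)) ⟶ TT f M N :=
  (f.adj.homEquiv _ _).symm (((adj.{u, u, u} O_D).homEquiv _ _).symm (δPre f M N))

/-- `δ` on presheaves. -/
noncomputable abbrev δP :
    PMod f ((L.{u, u, u} O_D).obj (DT M N)) ⟶ (G.{u, u, u} O_C).obj (TT f M N) :=
  (G.{u, u, u} O_C).map (δ f M N)

variable {f M N}

/-- `m ⊗ n` in the sheafified tensor product. -/
noncomputable def st {d : D} (m : _root_.ModSite.sect M d) (n : _root_.ModSite.sect N d) :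
    _root_.ModSite.sect ((L.{u, u, u} O_D).obj (DT M N)) d :=
  (ηD M N).app (op d) (tm ((G.{u, u, u} O_D).obj M) ((G.{u, u, u} O_D).obj N) m n)

lemma δP_pl {c : C} {d : D} (ψ : c ⟶ f.fn.obj d) (m : _root_.ModSite.sect M d)
    (n : _root_.ModSite.sect N d) :
    (δP f M N).app (op c) (pl f _ ψ (st m n)) =
      (ηC f M N).app (op c) (tm (PMod f M) (PMod f N) (pl f M ψ m) (pl f N ψ n)) := by
  refine (res_app (R := O_C.obj) (δP f M N) ψ.op _).trans ?_
  refine Eq.trans ?_ (res_app (R := O_C.obj) (ηC f M N) ψ.op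
    (tm (PMod f M) (PMod f N) (pm f M d m) (pm f N d n))).symm
  refine congrArg (res (R := O_C.obj) ((G.{u, u, u} O_C).obj (TT f M N)) ψ.op) ?_
  refine (congrArg (fun q => q.val.app (op d) (st m n))
    ((f.adj.homEquiv_unit _ _ _).symm.trans ((f.adj.homEquiv _ _).apply_symm_apply
      (((adj.{u, u, u} O_D).homEquiv _ _).symm (δPre f M N))))).trans ?_
  refine (congrArg (fun q => q.app (op d) (tm ((G.{u, u, u} O_D).obj M) ((G.{u, u, u} O_D).obj N) m n))
    (((adj.{u, u, u} O_D).homEquiv_unit _ _ _).symm.trans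
      (((adj.{u, u, u} O_D).homEquiv _ _).apply_symm_apply (δPre f M N)))).trans ?_
  exact δApp_tm f M N m n

/-- Covering sieves for finitely many conditions. -/
lemma exists_cover_forall {ι : Type*} [Finite ι] {c : C} {p : ι → ∀ ⦃c' : C⦄, (c' ⟶ c) → Prop}
    (h : ∀ i, ∃ S ∈ J c, ∀ ⦃c' : C⦄ (g : c' ⟶ c), S g → p i g) :
    ∃ S ∈ J c, ∀ ⦃c' : C⦄ (g : c' ⟶ c), S g → ∀ i, p i g := by
  classical
  have := Fintype.ofFinite ι
  choose S hS hp using h
  refine ⟨Finset.univ.inf S, ?_, fun c' g hg i =>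
    hp i g ((Finset.inf_le (Finset.mem_univ i) : Finset.univ.inf S ≤ S i) g hg)⟩
  induction (Finset.univ : Finset ι) using Finset.induction with
  | empty => simp
  | insert i s _ ih =>
    rw [Finset.inf_insert]
    exact J.intersection_covering (hS i) ih

/-- Finitely many sections of `f^*M` and `f^*N` locally use symbols over a common object. -/
lemma exists_cover_common {c : C} {k : ℕ} (a : Fin k → (PMod f M).obj (op c))
    (b : Fin k → (PMod f N).obj (op c)) :
    ∃ S ∈ J c, ∀ ⦃c' : C⦄ (g : c' ⟶ c), S g → ∀ i,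
      ∃ (Na Nb : ℕ) (x : Fin Na → (Sym f M).obj (op c')) (α : Fin Na → O_C.obj.obj (op c'))
        (y : Fin Nb → (Sym f N).obj (op c')) (β : Fin Nb → O_C.obj.obj (op c')),
        res (PMod f M) g.op (a i) = ∑ p, α p • pl f M (x p).1.2 (x p).2 ∧
        res (PMod f N) g.op (b i) = ∑ q, β q • pl f N (y q).1.2 (y q).2 := by
  refine exists_cover_forall fun i => ?_
  obtain ⟨S₁, hS₁, h₁⟩ := exists_cover_eps f M (fun _ : Fin 1 => a i)
  obtain ⟨S₂, hS₂, h₂⟩ := exists_cover_eps f N (fun _ : Fin 1 => b i)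
  refine ⟨S₁ ⊓ S₂, J.intersection_covering hS₁ hS₂, fun c' g hg => ?_⟩
  obtain ⟨z, hz⟩ := h₁ g hg.1
  obtain ⟨z', hz'⟩ := h₂ g hg.2
  obtain ⟨Na, x, α, hα⟩ := Flat.exists_common_support z
  obtain ⟨Nb, y, β, hβ⟩ := Flat.exists_common_support z'
  refine ⟨Na, Nb, x, α 0, y, β 0, ?_, ?_⟩
  · refine (hz 0).symm.trans ((congrArg _ (hα 0)).trans ?_)
    rw [map_sum]
    exact Finset.sum_congr rfl fun p _ =>
      (((eps f M).app (op c')).hom.map_smul _ _).trans (congrArg (_ • ·) (eps_b f _ _ _))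
  · refine (hz' 0).symm.trans ((congrArg _ (hβ 0)).trans ?_)
    rw [map_sum]
    exact Finset.sum_congr rfl fun q _ =>
      (((eps f N).app (op c')).hom.map_smul _ _).trans (congrArg (_ • ·) (eps_b f _ _ _))

variable (f M N)

theorem isLocallySurjective_δP : PresheafOfModules.IsLocallySurjective J (δP f M N) := by
  classical
  obtain ⟨-, hη⟩ := (isIso_map_iff.{u, u, u} (ηC f M N)).1 inferInstance
  refine ⟨fun {c} s => ?_⟩
  let Im : Sieve c := Presheaf.imageSieve (U := c) ((PresheafOfModules.toPresheaf _).map (δP f M N)) s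
  change Im ∈ J c
  obtain ⟨S, hS, hlift⟩ := exists_cover_lift J (R := O_C.obj) (ηC f M N) (X := op c)
    (fun _ : Fin 1 => s)
  refine J.transitive hS _ (fun c₁ g₁ hg₁ => ?_)
  obtain ⟨z, hz⟩ := hlift g₁ hg₁
  obtain ⟨k, a, b, hab⟩ := exists_sum_tm (z 0)
  obtain ⟨T, hT, hcomm⟩ := exists_cover_common (f := f) a b
  refine J.transitive hT _ (fun c₂ g₂ hg₂ => ?_)
  choose Na Nb x α y β hxa hyb using hcomm g₂ hg₂
  -- reduce to pairs of symbols
  suffices H : ∀ (i : Fin k) (p : Fin (Na i)) (q : Fin (Nb i)), ∃ R ∈ J c₂,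
      ∀ ⦃c₃ : C⦄ (g₃ : c₃ ⟶ c₂), R g₃ → ∃ t, (δP f M N).app (op c₃) t =
        res (R := O_C.obj) ((G.{u, u, u} O_C).obj (TT f M N)) g₃.op ((ηC f M N).app (op c₂)
          (tm (PMod f M) (PMod f N) (pl f M (x i p).1.2 (x i p).2)
            (pl f N (y i q).1.2 (y i q).2))) by
    obtain ⟨R, hR, hlift'⟩ := exists_cover_forall
      (ι := Σ i : Fin k, Fin (Na i) × Fin (Nb i)) fun v => H v.1 v.2.1 v.2.2
    refine J.superset_covering (fun c₃ g₃ hg₃ => ?_) hR
    choose t ht using fun v => hlift' g₃ hg₃ v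
    refine ⟨(∑ i : Fin k, ∑ p : Fin (Na i), ∑ q : Fin (Nb i),
      (O_C.obj.map g₃.op).hom (α i p * β i q) •
        (t ⟨i, p, q⟩ : (PMod f ((L.{u, u, u} O_D).obj (DT M N))).obj (op c₃)) :
      (PMod f ((L.{u, u, u} O_D).obj (DT M N))).obj (op c₃)), ?_⟩
    change (δP f M N).app (op c₃) _ = res (R := O_C.obj) _ ((g₃ ≫ g₂) ≫ g₁).op s
    have es : res (R := O_C.obj) ((G.{u, u, u} O_C).obj (TT f M N)) ((g₃ ≫ g₂) ≫ g₁).op s =
        (ηC f M N).app (op c₃) (res (PT f M N) g₃.op (res (PT f M N) g₂.op (z 0))) := by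
      rw [op_comp, res_comp, ← hz 0, op_comp, res_comp]
      exact (congrArg _ (res_app (R := O_C.obj) (ηC f M N) g₂.op (z 0)).symm).trans
        (res_app (R := O_C.obj) (ηC f M N) g₃.op _).symm
    have ez : res (PT f M N) g₃.op (res (PT f M N) g₂.op (z 0)) =
        ∑ i, tm (PMod f M) (PMod f N)
          (res (PMod f M) g₃.op (∑ p, α i p • pl f M (x i p).1.2 (x i p).2))
          (res (PMod f N) g₃.op (∑ q, β i q • pl f N (y i q).1.2 (y i q).2)) := by
      refine (congrArg (fun v => res (PT f M N) g₃.op (res (PT f M N) g₂.op v)) hab).trans ?_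
      refine (congrArg (res (PT f M N) g₃.op) (map_sum (res (PT f M N) g₂.op) _ _)).trans ?_
      refine (map_sum (res (PT f M N) g₃.op) _ _).trans (Finset.sum_congr rfl fun i _ => ?_)
      rw [res_tm, res_tm, hxa, hyb]
    refine Eq.trans ?_ ((congrArg ((ηC f M N).app (op c₃)) ez).symm |> fun h =>
      (es.trans h.symm).symm)
    refine Eq.trans ?_ (map_sum ((ηC f M N).app (op c₃)).hom _ _).symm
    refine (map_sum ((δP f M N).app (op c₃)).hom _ _).trans (Finset.sum_congr rfl fun i _ => ?_)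
    refine (map_sum ((δP f M N).app (op c₃)).hom _ _).trans ?_
    refine (Finset.sum_congr rfl fun p _ => map_sum ((δP f M N).app (op c₃)).hom _ _).trans ?_
    rw [map_sum, map_sum]
    have e₁ : ∀ p, res (PMod f M) g₃.op (α i p • pl f M (x i p).1.2 (x i p).2) =
        (O_C.obj.map g₃.op).hom (α i p) • res (PMod f M) g₃.op (pl f M (x i p).1.2 (x i p).2) :=
      fun p => res_smul _ _ _ _
    have e₂ : ∀ q, res (PMod f N) g₃.op (β i q • pl f N (y i q).1.2 (y i q).2) =
        (O_C.obj.map g₃.op).hom (β i q) • res (PMod f N) g₃.op (pl f N (y i q).1.2 (y i q).2) :=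
      fun q => res_smul _ _ _ _
    simp only [e₁, e₂]
    have e₃ : tm (PMod f M) (PMod f N)
        (∑ p, (O_C.obj.map g₃.op).hom (α i p) • res (PMod f M) g₃.op (pl f M (x i p).1.2 (x i p).2))
        (∑ q, (O_C.obj.map g₃.op).hom (β i q) • res (PMod f N) g₃.op (pl f N (y i q).1.2 (y i q).2)) =
        ∑ p, ∑ q, (O_C.obj.map g₃.op).hom (α i p * β i q) •
          res (PT f M N) g₃.op (tm (PMod f M) (PMod f N) (pl f M (x i p).1.2 (x i p).2)
            (pl f N (y i q).1.2 (y i q).2)) := by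
      simp only [tm, TensorProduct.sum_tmul, TensorProduct.tmul_sum]
      refine Finset.sum_comm.trans ?_
      refine Finset.sum_congr rfl fun p _ => Finset.sum_congr rfl fun q _ => ?_
      rw [map_mul, mul_smul]
      exact (tm_smul_left _ _ _).trans (congrArg _ (tm_smul_right _ _ _))
    refine Eq.trans ?_ (congrArg ((ηC f M N).app (op c₃)) e₃).symm
    simp only [map_sum]
    refine Finset.sum_congr rfl fun p _ => Finset.sum_congr rfl fun q _ => ?_
    refine (((δP f M N).app (op c₃)).hom.map_smul _ _).trans ?_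
    refine (congrArg (_ • ·) (ht ⟨i, p, q⟩)).trans ?_
    refine (congrArg (_ • ·) (res_app (R := O_C.obj) (ηC f M N) g₃.op _).symm).trans ?_
    exact (((ηC f M N).app (op c₃)).hom.map_smul _ _).symm
  intro i p q
  obtain ⟨R, hR, hprod⟩ := Basic.exists_cover_prod (J := J) K f.fn (x i p).1.2 (y i q).1.2
  refine ⟨R, hR, fun c₃ g₃ hg₃ => ?_⟩
  obtain ⟨d, u, v, ψ, hu, hv⟩ := hprod g₃ hg₃
  refine ⟨pl f _ ψ (st (res (R := O_D.obj) M.val u.op (x i p).2)
    (res (R := O_D.obj) N.val v.op (y i q).2)), ?_⟩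
  rw [δP_pl, pl_res, pl_res, hu, hv]
  refine Eq.trans ?_ (res_app (R := O_C.obj) (ηC f M N) g₃.op _)
  refine congrArg ((ηC f M N).app (op c₃)) ?_
  rw [res_tm, res_pl, res_pl]

end Groth.Agent.Lib.RMorLocal.TensorMap
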