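import Groth.Agent.Lib.RMorLocal.TensorIso

/-!
# Naturality of `f^*(M ⊗ N) ≅ f^*M ⊗ f^*N` in `M`
-/

set_option linter.style.haveILetI false

universe u

open CategoryTheory Limits Opposite MonoidalCategory TensorProduct

namespace Groth.Agent.Lib.RMorLocal.TensorNat

open Groth.Agent.Lib.ModTensor.Local Groth.Agent.Lib.RMorLocal.Pull
  Groth.Agent.Lib.ModTensor.Monoidal Groth.Agent.Lib.RMorLocal.TensorMap

variable {C D : Type u} [SmallCategory C] [SmallCategory D] {J : GrothendieckTopology C}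
  {K : GrothendieckTopology D} {O_C : Sheaf J CommRingCat.{u}} {O_D : Sheaf K CommRingCat.{u}}
  (f : _root_.ModSite.RMor O_C O_D)

theorem pm_nat {M M' : _root_.ModSite.Mod O_D} (a : M ⟶ M') {d : D} (m : _root_.ModSite.sect M d) :
    pm f M' d (a.val.app (op d) m) =
      ((G.{u, u, u} O_C).map (f.pull.map a)).app (op (f.fn.obj d)) (pm f M d m) :=
  congrArg (fun q => q.val.app (op d) m) (f.adj.unit.naturality a)

variable {M M' : _root_.ModSite.Mod O_D} (a : M ⟶ M') (N : _root_.ModSite.Mod O_D)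

theorem δPre_nat :
    ((G.{u, u, u} O_D).map a ▷ (G.{u, u, u} O_D).obj N) ≫ δPre f M' N =
      δPre f M N ≫ (G.{u, u, u} O_D).map (f.push.map
        ((L.{u, u, u} O_C).map ((G.{u, u, u} O_C).map (f.pull.map a) ▷ PMod f N))) := by
  ext d z
  change δApp f M' N d.unop (((G.{u, u, u} O_D).map a ▷ (G.{u, u, u} O_D).obj N).app d z) =
    ((L.{u, u, u} O_C).map ((G.{u, u, u} O_C).map (f.pull.map a) ▷ PMod f N)).val.app
      (op (f.fn.obj d.unop)) (δApp f M N d.unop z)
  obtain ⟨k, x, y, rfl⟩ := exists_sum_tm (R := O_D.obj) (X := d) z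
  simp only [map_sum]
  refine Eq.trans (Finset.sum_congr rfl fun i _ => ?_)
    (map_sum (((L.{u, u, u} O_C).map ((G.{u, u, u} O_C).map (f.pull.map a) ▷ PMod f N)).val.app
      (op (f.fn.obj d.unop))).hom _ _).symm
  refine (δApp_tm f M' N (a.val.app d (x i)) (y i)).trans ?_
  refine (congrArg (fun t => (ηC f M' N).app _ (tm (PMod f M') (PMod f N) t (pm f N d.unop (y i))))
    (pm_nat f a (d := d.unop) (x i))).trans ?_
  exact congrArg (fun q => q.app (op (f.fn.obj d.unop))
      (tm (PMod f M) (PMod f N) (pm f M d.unop (x i)) (pm f N d.unop (y i))))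
    ((adj.{u, u, u} O_C).unit.naturality ((G.{u, u, u} O_C).map (f.pull.map a) ▷ PMod f N))

theorem δ_nat :
    f.pull.map ((L.{u, u, u} O_D).map ((G.{u, u, u} O_D).map a ▷ (G.{u, u, u} O_D).obj N)) ≫
        δ f M' N =
      δ f M N ≫ (L.{u, u, u} O_C).map ((G.{u, u, u} O_C).map (f.pull.map a) ▷ PMod f N) := by
  unfold δ
  rw [← Adjunction.homEquiv_naturality_left_symm, ← Adjunction.homEquiv_naturality_right_symm,
    ← Adjunction.homEquiv_naturality_left_symm, ← Adjunction.homEquiv_naturality_right_symm,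
    δPre_nat f a N]

/-- `f^*(- ⊗ N) ≅ f^*(-) ⊗ f^*N`. -/
noncomputable def pullTensorNatIso :
    tenRight.{u, u, u} (O := O_D) N ⋙ f.pull ≅
      f.pull ⋙ tenRight.{u, u, u} (O := O_C) (f.pull.obj N) :=
  NatIso.ofComponents (fun M => TensorIso.pullTensorIso f M N) (fun a => δ_nat f a N)

/-- The same for `tensorBi`. -/
noncomputable def pullFlipIso :
    (_root_.ModSite.tensorBi O_D).flip.obj N ⋙ f.pull ≅
      f.pull ⋙ (_root_.ModSite.tensorBi O_C).flip.obj (f.pull.obj N) :=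
  Functor.isoWhiskerRight (ModTensor.ModSite.tensorBiFlipIso N) f.pull ≪≫ pullTensorNatIso f N ≪≫
    Functor.isoWhiskerLeft f.pull (ModTensor.ModSite.tensorBiFlipIso (f.pull.obj N)).symm

/-- `f_* Hom(f^*N, -) ≅ Hom(N, f_* -)`. -/
noncomputable def pushSheafHomIso [_root_.ModSite.HasSheafHom (f.pull.obj N)]
    [_root_.ModSite.HasSheafHom N] :
    _root_.ModSite.sheafHom (f.pull.obj N) ⋙ f.push ≅ f.push ⋙ _root_.ModSite.sheafHom N :=
  (f.adj.comp (_root_.ModSite.sheafHomAdj (f.pull.obj N))).rightAdjointUniq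
    (((_root_.ModSite.sheafHomAdj N).comp f.adj).ofNatIsoLeft (pullFlipIso f N))

end Groth.Agent.Lib.RMorLocal.TensorNat
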